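import Mathlib.LinearAlgebra.Matrix.Determinant.Basic
import Mathlib.LinearAlgebra.Matrix.Notation
import Mathlib.Tactic

/-!
# KZ: the Weyl group of type `D₄` as a list of matrices, finite checks (helper12)
-/

set_option autoImplicit false
set_option maxRecDepth 100000
set_option synthInstance.maxSize 4000

namespace Cfsg.Agent.KZ.ClD

open Matrix

/-- vectors -/
abbrev V4 : Type := ℤ × ℤ × ℤ × ℤ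

/-- matrices, as rows -/
abbrev M4 : Type := V4 × V4 × V4 × V4

/-- the scalar product -/
def dt (u v : V4) : ℤ := u.1 * v.1 + u.2.1 * v.2.1 + u.2.2.1 * v.2.2.1 + u.2.2.2 * v.2.2.2

/-- matrix times vector -/
def mv (m : M4) (v : V4) : V4 := (dt m.1 v, dt m.2.1 v, dt m.2.2.1 v, dt m.2.2.2 v)

/-- vector times matrix -/
def vm (v : V4) (m : M4) : V4 :=
  (dt v (m.1.1, m.2.1.1, m.2.2.1.1, m.2.2.2.1), dt v (m.1.2.1, m.2.1.2.1, m.2.2.1.2.1, m.2.2.2.2.1),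
    dt v (m.1.2.2.1, m.2.1.2.2.1, m.2.2.1.2.2.1, m.2.2.2.2.2.1), dt v (m.1.2.2.2, m.2.1.2.2.2, m.2.2.1.2.2.2, m.2.2.2.2.2.2))

/-- the product -/
def mm (a b : M4) : M4 := (vm a.1 b, vm a.2.1 b, vm a.2.2.1 b, vm a.2.2.2 b)

/-- the unit matrix -/
def m1 : M4 := ((1, 0, 0, 0), (0, 1, 0, 0), (0, 0, 1, 0), (0, 0, 0, 1))

/-- scalar multiples -/
def sc (n : ℤ) (v : V4) : V4 := (n * v.1, n * v.2.1, n * v.2.2.1, n * v.2.2.2)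

/-- congruence modulo `3` -/
def e3 (u v : V4) : Bool :=
  (u.1 - v.1) % 3 == 0 && ((u.2.1 - v.2.1) % 3 == 0 && ((u.2.2.1 - v.2.2.1) % 3 == 0 && (u.2.2.2 - v.2.2.2) % 3 == 0))

/-- a minor -/
def d3 (a b c d e f g h i : ℤ) : ℤ := a * (e * i - f * h) - b * (d * i - f * g) + c * (d * h - e * g)

/-- the determinant -/
def d4 (m : M4) : ℤ :=
  m.1.1 * d3 m.2.1.2.1 m.2.1.2.2.1 m.2.1.2.2.2 m.2.2.1.2.1 m.2.2.1.2.2.1 m.2.2.1.2.2.2 m.2.2.2.2.1 m.2.2.2.2.2.1 m.2.2.2.2.2.2 -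
  m.1.2.1 * d3 m.2.1.1 m.2.1.2.2.1 m.2.1.2.2.2 m.2.2.1.1 m.2.2.1.2.2.1 m.2.2.1.2.2.2 m.2.2.2.1 m.2.2.2.2.2.1 m.2.2.2.2.2.2 +
  m.1.2.2.1 * d3 m.2.1.1 m.2.1.2.1 m.2.1.2.2.2 m.2.2.1.1 m.2.2.1.2.1 m.2.2.1.2.2.2 m.2.2.2.1 m.2.2.2.2.1 m.2.2.2.2.2.2 -
  m.1.2.2.2 * d3 m.2.1.1 m.2.1.2.1 m.2.1.2.2.1 m.2.2.1.1 m.2.2.1.2.1 m.2.2.1.2.2.1 m.2.2.2.1 m.2.2.2.2.1 m.2.2.2.2.2.1

/-- the vector -/
def toV (v : V4) : Fin 4 → ℤ := ![v.1, v.2.1, v.2.2.1, v.2.2.2]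

/-- the matrix -/
def toM (m : M4) : Matrix (Fin 4) (Fin 4) ℤ := of ![toV m.1, toV m.2.1, toV m.2.2.1, toV m.2.2.2]

theorem toV_inj : Function.Injective toV := fun _ _ h =>
  Prod.ext (congrFun h 0) (Prod.ext (congrFun h 1) (Prod.ext (congrFun h 2) (congrFun h 3)))

theorem toM_inj : Function.Injective toM := fun _ _ h =>
  Prod.ext (toV_inj (congrFun h 0)) (Prod.ext (toV_inj (congrFun h 1)) (Prod.ext (toV_inj (congrFun h 2))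
    (toV_inj (congrFun h 3))))

theorem toV_surj (x : Fin 4 → ℤ) : toV (x 0, x 1, x 2, x 3) = x := by
  funext i
  fin_cases i <;> rfl

theorem toV_mv (m : M4) (v : V4) : toV (mv m v) = toM m *ᵥ toV v := by
  funext i
  fin_cases i <;> simp [toV, toM, mv, dt, mulVec, dotProduct, Fin.sum_univ_four]

theorem toV_vm (v : V4) (m : M4) : toV (vm v m) = toV v ᵥ* toM m := by
  funext i
  fin_cases i <;> simp [toV, toM, vm, dt, vecMul, dotProduct, Fin.sum_univ_four]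

theorem toM_mm (a b : M4) : toM (mm a b) = toM a * toM b := by
  ext i j
  fin_cases i <;> exact congrFun (toV_vm _ b) j

theorem toM_m1 : toM m1 = 1 := by decide +kernel

theorem toV_sc (n : ℤ) (v : V4) : toV (sc n v) = n • toV v := by
  funext i
  fin_cases i <;> rfl

theorem e3_iff {u v : V4} : e3 u v = true ↔ ∀ j, 3 ∣ toV u j - toV v j := by
  simp only [e3, Bool.and_eq_true, beq_iff_eq, Fin.forall_fin_succ, Int.dvd_iff_emod_eq_zero]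
  simp [toV]

theorem det_toM (m : M4) : (toM m).det = d4 m := by
  simp [toM, toV, d4, d3, det_succ_row_zero, Fin.sum_univ_succ, Fin.succAbove]
  ring

/-- the matrices -/
def LW0 : List M4 := [
  ((1, 0, 0, 0), (0, 1, 0, 0), (0, 0, 1, 0), (0, 0, 0, 1)),
  ((-1, 0, 0, 0), (1, 1, 0, 0), (0, 0, 1, 0), (0, 0, 0, 1)),
  ((1, 1, 0, 0), (0, -1, 0, 0), (0, 1, 1, 0), (0, 1, 0, 1)),
  ((1, 0, 0, 0), (0, 1, 1, 0), (0, 0, -1, 0), (0, 0, 0, 1)),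
  ((1, 0, 0, 0), (0, 1, 0, 1), (0, 0, 1, 0), (0, 0, 0, -1)),
  ((0, 1, 0, 0), (-1, -1, 0, 0), (1, 1, 1, 0), (1, 1, 0, 1)),
  ((-1, 0, 0, 0), (1, 1, 1, 0), (0, 0, -1, 0), (0, 0, 0, 1)),
  ((-1, 0, 0, 0), (1, 1, 0, 1), (0, 0, 1, 0), (0, 0, 0, -1)),
  ((-1, -1, 0, 0), (1, 0, 0, 0), (0, 1, 1, 0), (0, 1, 0, 1)),
  ((1, 1, 0, 0), (0, 0, 1, 0), (0, -1, -1, 0), (0, 1, 0, 1)),
  ((1, 1, 0, 0), (0, 0, 0, 1), (0, 1, 1, 0), (0, -1, 0, -1)),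
  ((1, 1, 1, 0), (0, -1, -1, 0), (0, 1, 0, 0), (0, 1, 1, 1)),
  ((1, 0, 0, 0), (0, 1, 1, 1), (0, 0, -1, 0), (0, 0, 0, -1)),
  ((1, 1, 0, 1), (0, -1, 0, -1), (0, 1, 1, 1), (0, 1, 0, 0)),
  ((0, -1, 0, 0), (-1, 0, 0, 0), (1, 1, 1, 0), (1, 1, 0, 1)),
  ((0, 1, 0, 0), (0, 0, 1, 0), (-1, -1, -1, 0), (1, 1, 0, 1)),
  ((0, 1, 0, 0), (0, 0, 0, 1), (1, 1, 1, 0), (-1, -1, 0, -1)),
  ((0, 1, 1, 0), (-1, -1, -1, 0), (1, 1, 0, 0), (1, 1, 1, 1)),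
  ((-1, 0, 0, 0), (1, 1, 1, 1), (0, 0, -1, 0), (0, 0, 0, -1)),
  ((0, 1, 0, 1), (-1, -1, 0, -1), (1, 1, 1, 1), (1, 1, 0, 0)),
  ((-1, -1, 0, 0), (1, 1, 1, 0), (0, -1, -1, 0), (0, 1, 0, 1)),
  ((-1, -1, 0, 0), (1, 1, 0, 1), (0, 1, 1, 0), (0, -1, 0, -1)),
  ((1, 1, 1, 0), (0, 0, -1, 0), (0, -1, 0, 0), (0, 1, 1, 1)),
  ((1, 1, 0, 0), (0, 1, 1, 1), (0, -1, -1, 0), (0, -1, 0, -1)),
  ((1, 1, 0, 1), (0, 0, 0, -1), (0, 1, 1, 1), (0, -1, 0, 0)),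
  ((-1, -1, -1, 0), (1, 0, 0, 0), (0, 1, 0, 0), (0, 1, 1, 1)),
  ((1, 1, 1, 0), (0, 0, 0, 1), (0, 1, 0, 0), (0, -1, -1, -1)),
  ((1, 1, 1, 1), (0, -1, -1, -1), (0, 1, 0, 1), (0, 1, 1, 0)),
  ((-1, -1, 0, -1), (1, 0, 0, 0), (0, 1, 1, 1), (0, 1, 0, 0)),
  ((1, 1, 0, 1), (0, 0, 1, 0), (0, -1, -1, -1), (0, 1, 0, 0)),
  ((0, -1, 0, 0), (0, 1, 1, 0), (-1, -1, -1, 0), (1, 1, 0, 1)),
  ((0, -1, 0, 0), (0, 1, 0, 1), (1, 1, 1, 0), (-1, -1, 0, -1))]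

/-- the matrices -/
def LW1 : List M4 := [
  ((0, 1, 1, 0), (0, 0, -1, 0), (-1, -1, 0, 0), (1, 1, 1, 1)),
  ((0, 1, 0, 0), (1, 1, 1, 1), (-1, -1, -1, 0), (-1, -1, 0, -1)),
  ((0, 1, 0, 1), (0, 0, 0, -1), (1, 1, 1, 1), (-1, -1, 0, 0)),
  ((0, -1, -1, 0), (-1, 0, 0, 0), (1, 1, 0, 0), (1, 1, 1, 1)),
  ((0, 1, 1, 0), (0, 0, 0, 1), (1, 1, 0, 0), (-1, -1, -1, -1)),
  ((0, 1, 1, 1), (-1, -1, -1, -1), (1, 1, 0, 1), (1, 1, 1, 0)),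
  ((0, -1, 0, -1), (-1, 0, 0, 0), (1, 1, 1, 1), (1, 1, 0, 0)),
  ((0, 1, 0, 1), (0, 0, 1, 0), (-1, -1, -1, -1), (1, 1, 0, 0)),
  ((0, 0, 1, 0), (-1, -1, -1, 0), (1, 0, 0, 0), (1, 2, 1, 1)),
  ((-1, -1, 0, 0), (1, 2, 1, 1), (0, -1, -1, 0), (0, -1, 0, -1)),
  ((0, 0, 0, 1), (-1, -1, 0, -1), (1, 2, 1, 1), (1, 0, 0, 0)),
  ((-1, -1, -1, 0), (1, 1, 0, 0), (0, -1, 0, 0), (0, 1, 1, 1)),
  ((1, 1, 1, 0), (0, 1, 0, 1), (0, -1, 0, 0), (0, -1, -1, -1)),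
  ((1, 2, 1, 1), (0, -1, -1, -1), (0, 0, 0, 1), (0, 0, 1, 0)),
  ((-1, -1, 0, -1), (1, 1, 0, 0), (0, 1, 1, 1), (0, -1, 0, 0)),
  ((1, 1, 0, 1), (0, 1, 1, 0), (0, -1, -1, -1), (0, -1, 0, 0)),
  ((-1, -1, -1, 0), (1, 1, 1, 1), (0, 1, 0, 0), (0, -1, -1, -1)),
  ((1, 1, 1, 1), (0, 0, 0, -1), (0, 1, 0, 1), (0, -1, -1, 0)),
  ((-1, -1, -1, -1), (1, 0, 0, 0), (0, 1, 0, 1), (0, 1, 1, 0)),
  ((1, 1, 1, 1), (0, 0, -1, 0), (0, -1, 0, -1), (0, 1, 1, 0)),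
  ((-1, -1, 0, -1), (1, 1, 1, 1), (0, -1, -1, -1), (0, 1, 0, 0)),
  ((0, 0, 1, 0), (0, -1, -1, 0), (-1, 0, 0, 0), (1, 2, 1, 1)),
  ((0, -1, 0, 0), (1, 2, 1, 1), (-1, -1, -1, 0), (-1, -1, 0, -1)),
  ((0, 0, 0, 1), (0, -1, 0, -1), (1, 2, 1, 1), (-1, 0, 0, 0)),
  ((0, -1, -1, 0), (0, 1, 0, 0), (-1, -1, 0, 0), (1, 1, 1, 1)),
  ((0, 1, 1, 0), (1, 1, 0, 1), (-1, -1, 0, 0), (-1, -1, -1, -1)),
  ((1, 2, 1, 1), (-1, -1, -1, -1), (0, 0, 0, 1), (0, 0, 1, 0)),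
  ((0, -1, 0, -1), (0, 1, 0, 0), (1, 1, 1, 1), (-1, -1, 0, 0)),
  ((0, 1, 0, 1), (1, 1, 1, 0), (-1, -1, -1, -1), (-1, -1, 0, 0)),
  ((0, -1, -1, 0), (0, 1, 1, 1), (1, 1, 0, 0), (-1, -1, -1, -1)),
  ((0, 1, 1, 1), (0, 0, 0, -1), (1, 1, 0, 1), (-1, -1, -1, 0)),
  ((0, -1, -1, -1), (-1, 0, 0, 0), (1, 1, 0, 1), (1, 1, 1, 0))]

/-- the matrices -/
def LW2 : List M4 := [
  ((0, 1, 1, 1), (0, 0, -1, 0), (-1, -1, 0, -1), (1, 1, 1, 0)),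
  ((0, -1, 0, -1), (0, 1, 1, 1), (-1, -1, -1, -1), (1, 1, 0, 0)),
  ((0, 0, -1, 0), (-1, -1, 0, 0), (1, 0, 0, 0), (1, 2, 1, 1)),
  ((0, 0, 1, 0), (0, 1, 0, 1), (1, 0, 0, 0), (-1, -2, -1, -1)),
  ((0, 1, 1, 1), (-1, -2, -1, -1), (1, 1, 0, 1), (1, 1, 1, 0)),
  ((0, 0, 0, -1), (-1, -1, 0, 0), (1, 2, 1, 1), (1, 0, 0, 0)),
  ((0, 0, 0, 1), (0, 1, 1, 0), (-1, -2, -1, -1), (1, 0, 0, 0)),
  ((-1, -1, -1, 0), (1, 2, 1, 1), (0, -1, 0, 0), (0, -1, -1, -1)),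
  ((1, 2, 1, 1), (0, -1, 0, -1), (0, 0, 0, 1), (0, 0, -1, 0)),
  ((-1, -2, -1, -1), (1, 1, 0, 0), (0, 0, 0, 1), (0, 0, 1, 0)),
  ((1, 2, 1, 1), (0, -1, -1, 0), (0, 0, 0, -1), (0, 0, 1, 0)),
  ((-1, -1, 0, -1), (1, 2, 1, 1), (0, -1, -1, -1), (0, -1, 0, 0)),
  ((0, 0, 0, 1), (-1, -1, -1, -1), (1, 2, 1, 1), (1, 0, 0, 0)),
  ((-1, -1, -1, -1), (1, 1, 1, 0), (0, 1, 0, 1), (0, -1, -1, 0)),
  ((1, 1, 1, 1), (0, 1, 0, 0), (0, -1, 0, -1), (0, -1, -1, 0)),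
  ((-1, -1, -1, -1), (1, 1, 0, 1), (0, -1, 0, -1), (0, 1, 1, 0)),
  ((0, 0, 1, 0), (-1, -1, -1, -1), (1, 0, 0, 0), (1, 2, 1, 1)),
  ((0, 0, -1, 0), (0, -1, 0, 0), (-1, 0, 0, 0), (1, 2, 1, 1)),
  ((0, 0, 1, 0), (1, 1, 0, 1), (-1, 0, 0, 0), (-1, -2, -1, -1)),
  ((1, 1, 1, 1), (-1, -2, -1, -1), (0, 1, 0, 1), (0, 1, 1, 0)),
  ((0, 0, 0, -1), (0, -1, 0, 0), (1, 2, 1, 1), (-1, 0, 0, 0)),
  ((0, 0, 0, 1), (1, 1, 1, 0), (-1, -2, -1, -1), (-1, 0, 0, 0)),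
  ((0, -1, -1, 0), (1, 2, 1, 1), (-1, -1, 0, 0), (-1, -1, -1, -1)),
  ((1, 2, 1, 1), (-1, -1, 0, -1), (0, 0, 0, 1), (0, 0, -1, 0)),
  ((-1, -2, -1, -1), (0, 1, 0, 0), (0, 0, 0, 1), (0, 0, 1, 0)),
  ((1, 2, 1, 1), (-1, -1, -1, 0), (0, 0, 0, -1), (0, 0, 1, 0)),
  ((0, -1, 0, -1), (1, 2, 1, 1), (-1, -1, -1, -1), (-1, -1, 0, 0)),
  ((0, 0, 0, 1), (0, -1, -1, -1), (1, 2, 1, 1), (-1, 0, 0, 0)),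
  ((0, -1, -1, -1), (0, 1, 1, 0), (1, 1, 0, 1), (-1, -1, -1, 0)),
  ((0, 1, 1, 1), (1, 1, 0, 0), (-1, -1, 0, -1), (-1, -1, -1, 0)),
  ((0, -1, -1, -1), (0, 1, 0, 1), (-1, -1, 0, -1), (1, 1, 1, 0)),
  ((0, 0, 1, 0), (0, -1, -1, -1), (-1, 0, 0, 0), (1, 2, 1, 1))]

/-- the matrices -/
def LW3 : List M4 := [
  ((0, 0, -1, 0), (0, 1, 1, 1), (1, 0, 0, 0), (-1, -2, -1, -1)),
  ((0, 1, 1, 1), (0, -1, 0, -1), (1, 1, 0, 1), (-1, -1, -1, 0)),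
  ((0, -1, -1, -1), (-1, -1, 0, 0), (1, 1, 0, 1), (1, 1, 1, 0)),
  ((0, 1, 1, 1), (0, -1, -1, 0), (-1, -1, 0, -1), (1, 1, 1, 0)),
  ((0, 0, 0, -1), (0, 1, 1, 1), (-1, -2, -1, -1), (1, 0, 0, 0)),
  ((0, 1, 0, 1), (-1, -2, -1, -1), (1, 1, 1, 1), (1, 1, 0, 0)),
  ((-1, -2, -1, -1), (1, 1, 1, 0), (0, 0, 0, 1), (0, 0, -1, 0)),
  ((1, 2, 1, 1), (0, -1, 0, 0), (0, 0, 0, -1), (0, 0, -1, 0)),
  ((-1, -2, -1, -1), (1, 1, 0, 1), (0, 0, 0, -1), (0, 0, 1, 0)),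
  ((0, 1, 1, 0), (-1, -2, -1, -1), (1, 1, 0, 0), (1, 1, 1, 1)),
  ((0, 0, 0, -1), (-1, -1, -1, 0), (1, 2, 1, 1), (1, 0, 0, 0)),
  ((0, 0, 0, 1), (0, 1, 0, 0), (-1, -2, -1, -1), (1, 0, 0, 0)),
  ((-1, -1, -1, -1), (1, 2, 1, 1), (0, -1, 0, -1), (0, -1, -1, 0)),
  ((0, 0, -1, 0), (-1, -1, 0, -1), (1, 0, 0, 0), (1, 2, 1, 1)),
  ((0, 0, 1, 0), (0, 1, 0, 0), (1, 0, 0, 0), (-1, -2, -1, -1)),
  ((0, 0, -1, 0), (1, 1, 1, 1), (-1, 0, 0, 0), (-1, -2, -1, -1)),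
  ((1, 1, 1, 1), (-1, -1, 0, -1), (0, 1, 0, 1), (0, -1, -1, 0)),
  ((-1, -1, -1, -1), (0, -1, 0, 0), (0, 1, 0, 1), (0, 1, 1, 0)),
  ((1, 1, 1, 1), (-1, -1, -1, 0), (0, -1, 0, -1), (0, 1, 1, 0)),
  ((0, 0, 0, -1), (1, 1, 1, 1), (-1, -2, -1, -1), (-1, 0, 0, 0)),
  ((1, 1, 0, 1), (-1, -2, -1, -1), (0, 1, 1, 1), (0, 1, 0, 0)),
  ((-1, -2, -1, -1), (0, 1, 1, 0), (0, 0, 0, 1), (0, 0, -1, 0)),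
  ((1, 2, 1, 1), (-1, -1, 0, 0), (0, 0, 0, -1), (0, 0, -1, 0)),
  ((-1, -2, -1, -1), (0, 1, 0, 1), (0, 0, 0, -1), (0, 0, 1, 0)),
  ((1, 1, 1, 0), (-1, -2, -1, -1), (0, 1, 0, 0), (0, 1, 1, 1)),
  ((0, 0, 0, -1), (0, -1, -1, 0), (1, 2, 1, 1), (-1, 0, 0, 0)),
  ((0, 0, 0, 1), (1, 1, 0, 0), (-1, -2, -1, -1), (-1, 0, 0, 0)),
  ((0, -1, -1, -1), (1, 2, 1, 1), (-1, -1, 0, -1), (-1, -1, -1, 0)),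
  ((0, 0, -1, 0), (0, -1, 0, -1), (-1, 0, 0, 0), (1, 2, 1, 1)),
  ((0, 0, 1, 0), (1, 1, 0, 0), (-1, 0, 0, 0), (-1, -2, -1, -1)),
  ((0, 1, 0, 1), (0, -1, -1, -1), (1, 1, 1, 1), (-1, -1, 0, 0)),
  ((0, -1, -1, -1), (0, 0, 1, 0), (1, 1, 0, 1), (-1, -1, -1, 0))]

/-- the matrices -/
def LW4 : List M4 := [
  ((0, 1, 1, 1), (1, 0, 0, 0), (-1, -1, 0, -1), (-1, -1, -1, 0)),
  ((0, -1, -1, -1), (0, 0, 0, 1), (-1, -1, 0, -1), (1, 1, 1, 0)),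
  ((0, 1, 1, 0), (0, -1, -1, -1), (-1, -1, 0, 0), (1, 1, 1, 1)),
  ((0, -1, 0, -1), (-1, -1, -1, 0), (1, 1, 1, 1), (1, 1, 0, 0)),
  ((0, 1, 0, 1), (0, -1, 0, 0), (-1, -1, -1, -1), (1, 1, 0, 0)),
  ((-1, -2, -1, -1), (1, 1, 1, 1), (0, 0, 0, -1), (0, 0, -1, 0)),
  ((0, -1, -1, 0), (-1, -1, 0, -1), (1, 1, 0, 0), (1, 1, 1, 1)),
  ((0, 1, 1, 0), (0, -1, 0, 0), (1, 1, 0, 0), (-1, -1, -1, -1)),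
  ((0, 0, 0, -1), (0, 1, 0, 1), (-1, -2, -1, -1), (1, 0, 0, 0)),
  ((0, 1, 0, 0), (-1, -2, -1, -1), (1, 1, 1, 0), (1, 1, 0, 1)),
  ((0, 0, -1, 0), (0, 1, 1, 0), (1, 0, 0, 0), (-1, -2, -1, -1)),
  ((1, 1, 0, 1), (-1, -1, -1, -1), (0, 1, 1, 1), (0, -1, 0, 0)),
  ((-1, -1, -1, -1), (0, 0, 1, 0), (0, 1, 0, 1), (0, -1, -1, 0)),
  ((1, 1, 1, 1), (-1, 0, 0, 0), (0, -1, 0, -1), (0, -1, -1, 0)),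
  ((-1, -1, -1, -1), (0, 0, 0, 1), (0, -1, 0, -1), (0, 1, 1, 0)),
  ((1, 1, 1, 0), (-1, -1, -1, -1), (0, -1, 0, 0), (0, 1, 1, 1)),
  ((-1, -1, 0, -1), (0, -1, -1, 0), (0, 1, 1, 1), (0, 1, 0, 0)),
  ((1, 1, 0, 1), (-1, -1, 0, 0), (0, -1, -1, -1), (0, 1, 0, 0)),
  ((-1, -2, -1, -1), (0, 1, 1, 1), (0, 0, 0, -1), (0, 0, -1, 0)),
  ((-1, -1, -1, 0), (0, -1, 0, -1), (0, 1, 0, 0), (0, 1, 1, 1)),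
  ((1, 1, 1, 0), (-1, -1, 0, 0), (0, 1, 0, 0), (0, -1, -1, -1)),
  ((0, 0, 0, -1), (1, 1, 0, 1), (-1, -2, -1, -1), (-1, 0, 0, 0)),
  ((1, 1, 0, 0), (-1, -2, -1, -1), (0, 1, 1, 0), (0, 1, 0, 1)),
  ((0, 0, -1, 0), (1, 1, 1, 0), (-1, 0, 0, 0), (-1, -2, -1, -1)),
  ((0, -1, 0, -1), (0, 0, -1, 0), (1, 1, 1, 1), (-1, -1, 0, 0)),
  ((0, 1, 0, 1), (1, 0, 0, 0), (-1, -1, -1, -1), (-1, -1, 0, 0)),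
  ((0, -1, -1, -1), (1, 1, 1, 1), (-1, -1, 0, -1), (-1, -1, -1, 0)),
  ((0, -1, -1, 0), (0, 0, 0, -1), (-1, -1, 0, 0), (1, 1, 1, 1)),
  ((0, 1, 1, 0), (1, 0, 0, 0), (-1, -1, 0, 0), (-1, -1, -1, -1)),
  ((0, -1, 0, -1), (0, 0, 0, 1), (-1, -1, -1, -1), (1, 1, 0, 0)),
  ((0, -1, 0, 0), (-1, -1, -1, -1), (1, 1, 1, 0), (1, 1, 0, 1)),
  ((0, -1, -1, 0), (0, 0, 1, 0), (1, 1, 0, 0), (-1, -1, -1, -1))]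

/-- the matrices -/
def LW5 : List M4 := [
  ((0, 1, 0, 0), (0, -1, 0, -1), (-1, -1, -1, 0), (1, 1, 0, 1)),
  ((0, 1, 0, 0), (0, -1, -1, 0), (1, 1, 1, 0), (-1, -1, 0, -1)),
  ((-1, -1, 0, -1), (0, 0, -1, 0), (0, 1, 1, 1), (0, -1, 0, 0)),
  ((1, 1, 0, 1), (-1, 0, 0, 0), (0, -1, -1, -1), (0, -1, 0, 0)),
  ((-1, -1, -1, -1), (0, 1, 1, 1), (0, -1, 0, -1), (0, -1, -1, 0)),
  ((-1, -1, -1, 0), (0, 0, 0, -1), (0, -1, 0, 0), (0, 1, 1, 1)),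
  ((1, 1, 1, 0), (-1, 0, 0, 0), (0, -1, 0, 0), (0, -1, -1, -1)),
  ((-1, -1, 0, -1), (0, 0, 0, 1), (0, -1, -1, -1), (0, 1, 0, 0)),
  ((-1, -1, 0, 0), (0, -1, -1, -1), (0, 1, 1, 0), (0, 1, 0, 1)),
  ((-1, -1, -1, 0), (0, 0, 1, 0), (0, 1, 0, 0), (0, -1, -1, -1)),
  ((1, 1, 0, 0), (-1, -1, 0, -1), (0, -1, -1, 0), (0, 1, 0, 1)),
  ((1, 1, 0, 0), (-1, -1, -1, 0), (0, 1, 1, 0), (0, -1, 0, -1)),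
  ((0, -1, 0, -1), (1, 1, 0, 1), (-1, -1, -1, -1), (-1, -1, 0, 0)),
  ((1, 0, 0, 0), (-1, -1, -1, -1), (0, 0, 1, 0), (0, 0, 0, 1)),
  ((0, -1, -1, 0), (1, 1, 1, 0), (-1, -1, 0, 0), (-1, -1, -1, -1)),
  ((0, -1, 0, 0), (0, 0, 0, -1), (-1, -1, -1, 0), (1, 1, 0, 1)),
  ((0, -1, 0, 0), (0, 0, -1, 0), (1, 1, 1, 0), (-1, -1, 0, -1)),
  ((0, 1, 0, 0), (1, 0, 0, 0), (-1, -1, -1, 0), (-1, -1, 0, -1)),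
  ((-1, -1, 0, -1), (0, 1, 0, 1), (0, -1, -1, -1), (0, -1, 0, 0)),
  ((-1, 0, 0, 0), (0, -1, -1, -1), (0, 0, 1, 0), (0, 0, 0, 1)),
  ((-1, -1, -1, 0), (0, 1, 1, 0), (0, -1, 0, 0), (0, -1, -1, -1)),
  ((-1, -1, 0, 0), (0, 0, 0, -1), (0, -1, -1, 0), (0, 1, 0, 1)),
  ((-1, -1, 0, 0), (0, 0, -1, 0), (0, 1, 1, 0), (0, -1, 0, -1)),
  ((1, 1, 0, 0), (-1, 0, 0, 0), (0, -1, -1, 0), (0, -1, 0, -1)),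
  ((1, 0, 0, 0), (-1, -1, 0, -1), (0, 0, -1, 0), (0, 0, 0, 1)),
  ((1, 0, 0, 0), (-1, -1, -1, 0), (0, 0, 1, 0), (0, 0, 0, -1)),
  ((0, -1, 0, 0), (1, 1, 0, 0), (-1, -1, -1, 0), (-1, -1, 0, -1)),
  ((-1, 0, 0, 0), (0, -1, 0, -1), (0, 0, -1, 0), (0, 0, 0, 1)),
  ((-1, 0, 0, 0), (0, -1, -1, 0), (0, 0, 1, 0), (0, 0, 0, -1)),
  ((-1, -1, 0, 0), (0, 1, 0, 0), (0, -1, -1, 0), (0, -1, 0, -1)),
  ((1, 0, 0, 0), (-1, -1, 0, 0), (0, 0, -1, 0), (0, 0, 0, -1)),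
  ((-1, 0, 0, 0), (0, -1, 0, 0), (0, 0, -1, 0), (0, 0, 0, -1))]

/-- the orbit of `x3` modulo `3` -/
def X3 : List V4 := [
  (0, 1, 0, 2), (0, 1, 1, 2), (0, 1, 2, 0), (0, 1, 2, 1), (0, 2, 0, 1), (0, 2, 1, 0), (0, 2, 1, 2), (0, 2, 2, 1), (1, 0, 1, 1), (1, 0, 1, 2), (1, 0, 2, 1), (1, 0, 2, 2), (1, 1, 0, 2), (1, 1, 1, 2), (1, 1, 2, 0), (1, 1, 2, 1), (1, 2, 0, 0), (1, 2, 0, 2), (1, 2, 2, 0), (1, 2, 2, 2), (2, 0, 1, 1), (2, 0, 1, 2), (2, 0, 2, 1), (2, 0, 2, 2), (2, 1, 0, 0), (2, 1, 0, 1), (2, 1, 1, 0), (2, 1, 1, 1), (2, 2, 0, 1), (2, 2, 1, 0), (2, 2, 1, 2), (2, 2, 2, 1)]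

/-- the orbit of `(1, 0, 0, 0)` modulo `3` -/
def X8 : List V4 := [(0, 0, 1, 1), (0, 0, 1, 2), (0, 0, 2, 1), (0, 0, 2, 2), (0, 1, 2, 2), (0, 2, 1, 1), (1, 1, 2, 2), (2, 2, 1, 1)]

/-- the generators -/
def SG : Fin 4 → M4 := ![((-1, 0, 0, 0), (1, 1, 0, 0), (0, 0, 1, 0), (0, 0, 0, 1)), ((1, 1, 0, 0), (0, -1, 0, 0), (0, 1, 1, 0), (0, 1, 0, 1)), ((1, 0, 0, 0), (0, 1, 1, 0), (0, 0, -1, 0), (0, 0, 0, 1)), ((1, 0, 0, 0), (0, 1, 0, 1), (0, 0, 1, 0), (0, 0, 0, -1))]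

/-- the symmetries of the diagram -/
def LB : List M4 := [
  ((1, 0, 0, 0), (0, 1, 0, 0), (0, 0, 1, 0), (0, 0, 0, 1)),
  ((0, 0, 0, 1), (0, 1, 0, 0), (1, 0, 0, 0), (0, 0, 1, 0)),
  ((0, 0, 1, 0), (0, 1, 0, 0), (0, 0, 0, 1), (1, 0, 0, 0)),
  ((0, 0, 1, 0), (0, 1, 0, 0), (1, 0, 0, 0), (0, 0, 0, 1)),
  ((0, 0, 0, 1), (0, 1, 0, 0), (0, 0, 1, 0), (1, 0, 0, 0)),
  ((1, 0, 0, 0), (0, 1, 0, 0), (0, 0, 0, 1), (0, 0, 1, 0))]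

/-- the Weyl group -/
def LW : List M4 := LW0 ++ LW1 ++ LW2 ++ LW3 ++ LW4 ++ LW5

/-- the labels -/
def xs : Fin 5 → V4 := ![(0, 0, 0, 0), (2, 4, 3, 3), (1, 2, 1, 2), (1, 2, 2, 1), (2, 2, 1, 1)]

/-- the Levi subgroups -/
def ls : Fin 5 → V4 := ![(0, 0, 0, 0), (0, 0, 1, 1), (0, 0, 0, 1), (0, 0, 1, 0), (1, 0, 0, 0)]

/-- the Levi subgroups of type `A₁ A₁` -/
def la : Fin 3 → V4 := ![(0, 1, 0, 1), (0, 1, 1, 0), (1, 1, 0, 0)]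

/-- the Levi subgroups of type `A₂` -/
def lb : Fin 3 → V4 := ![(0, 0, 1, 1), (0, 0, 1, 1), (1, 0, 0, 1)]

/-- the position of the labels of type `A₃` -/
def t4 : Fin 3 → Fin 5 := ![2, 3, 4]

/-- `m` fixes `x` modulo `3` -/
def fx (x : V4) (m : M4) : Bool := e3 (vm x m) x

/-- the stabilisers -/
def LS (t : Fin 5) : List M4 := LW.filter (fx (xs t))

/-- three class functions -/
def ph (i : Fin 3) (m : M4) : ℤ :=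
  if i = 0 then 1 else if i = 1 then d4 m else if d4 m = 1 then (if mm m m = m1 then 2 else -1) else 0

/-- the index of the label -/
def jt : Fin 4 ⊕ Fin 3 × Fin 3 → Fin 5
  | .inl i => ![0, 0, 1, 1] i
  | .inr i => t4 i.2

/-- the index of the class function -/
def ji : Fin 4 ⊕ Fin 3 × Fin 3 → Fin 3
  | .inl i => ![0, 1, 0, 1] i
  | .inr i => i.1

theorem len_LW : LW.length = 192 := by decide +kernel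

theorem m1_mem : m1 ∈ LW := by decide +kernel

theorem closed : ∀ m ∈ LW, ∀ i : Fin 4, mm (SG i) m ∈ LW := by decide +kernel

theorem len_LS : ∀ t, (LS t).length = ![192, 6, 24, 24, 24] t := by decide +kernel

theorem stab_eq : ∀ t, ∀ m ∈ LW, (fx (xs t) m = true ↔ mv m (ls t) = ls t) ∧ (mv m (ls t) = ls t → vm (xs t) m = xs t) := by
  decide +kernel

theorem stab_sub : ∀ t, ∀ m ∈ LW, (mv m (la t) = la t ∨ mv m (lb t) = lb t) → mv m (ls (t4 t)) = ls (t4 t) := by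
  decide +kernel

theorem len_sub : ∀ t, (LW.countP fun m => mv m (la t) = la t) = 4 ∧ (LW.countP fun m => mv m (lb t) = lb t) = 6 := by
  decide +kernel

theorem ind_eq : ∀ t, ∀ m ∈ LS (t4 t),
    3 * (((LS (t4 t)).countP fun v => mv m (mv v (la t)) = mv v (la t) : ℕ) : ℤ) -
      2 * (((LS (t4 t)).countP fun v => mv m (mv v (lb t)) = mv v (lb t) : ℕ) : ℤ) = 12 * ph 2 m := by
  decide +kernel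

theorem orth : ∀ j j', jt j = jt j' →
    ((LS (jt j)).map fun m => ph (ji j') m * ph (ji j) m).sum = if j = j' then ((LS (jt j)).length : ℤ) else 0 := by
  decide +kernel

theorem not_conj : ∀ t t', t ≠ t' → ∀ m ∈ LW, e3 (vm (xs t') m) (xs t) = false := by decide +kernel

theorem move : ∀ b ∈ LB, ∀ n ∈ [(1 : ℤ), 2], (∀ t ∈ [(0 : Fin 5), 1], ∃ m ∈ LW, e3 (vm (xs t) m) (sc n (vm (xs t) b)) = true) ∧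
    ∀ t, ∃ t', ∃ m ∈ LW, e3 (vm (xs (t4 t')) m) (sc n (vm (xs (t4 t)) b)) = true := by
  decide +kernel

theorem det_LB : ∀ b ∈ LB, d4 b = 1 ∨ d4 b = -1 := by decide +kernel

theorem two_chk : ∀ m ∈ LW, mm m (mm m m) = m1 → ∃ x ∈ X3, fx x m = true ∧ e3 x (0, 0, 0, 0) = false ∧
    ∃ x' ∈ X8, fx x' m = true ∧ ∀ n ∈ [(0 : ℤ), 1, 2], e3 x' (sc n x) = false := by
  decide +kernel

theorem sym_chk : ∀ m ∈ LW, m ≠ m1 → mm m (mm m m) = m1 → ∃ x ∈ X3, fx x m = true ∧ e3 x (0, 0, 0, 0) = false ∧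
    (∃ r ∈ LW, fx x r = true ∧ mm m (mm r m) = r) ∧
    (∀ u ∈ LW, fx x u = true → mm u m = mm m u → u = m1 ∨ u = m ∨ u = mm m m) ∧
    ∀ x' ∈ X3, fx x' m = true → e3 x' x = true ∨ e3 x' (sc 2 x) = true := by
  decide +kernel

theorem X3_W : ∀ x ∈ X3, ∀ i : Fin 4, ∃ x' ∈ X3, e3 x' (vm x (SG i)) = true := by decide +kernel

theorem X3_B : ∀ x ∈ X3, ∀ b ∈ LB, ∀ n ∈ [(1 : ℤ), 2], ∃ x' ∈ X3, e3 x' (sc n (vm x b)) = true := by decide +kernel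

end Cfsg.Agent.KZ.ClD
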