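import Cfsg.Agent.KZ.ClD.Fam
import Cfsg.Agent.KZ.ClD.D4Dat
import Cfsg.Agent.KZ.DatX.Weyl
import Cfsg.Agent.KZ.DatX.Main
import Cfsg.Agent.KZ.Lie.McSc
import Cfsg.Agent.KZ.Lie.Loc
import Cfsg.Agent.KZ.Cl.Defs

/-!
# KZ: the rows for `PΩ⁺₈(q)`, `3 ∤ q` (helper12)
-/

set_option autoImplicit false
set_option linter.unusedSectionVars false
set_option synthInstance.maxSize 4000

namespace Cfsg.Agent.KZ.ClD

open Cfsg Cfsg.Lie Cfsg.Agent.DL Cfsg.Agent.DL.PP Cfsg.Agent.DL.Uni Cfsg.Agent.KZ.Lie Cfsg.Agent.Characters.Core Matrix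
  Cfsg.Agent.KZ.Red Cfsg.Agent.KZ.Res Cfsg.Agent.KZ.DatX
open scoped ComplexConjugate

/-! ### labels of order `3` -/

theorem exists_om : ∃ ξ : ℂˣ, IsPrimitiveRoot ξ 3 :=
  ⟨_, (Complex.isPrimitiveRoot_exp 3 (by decide)).isUnit_unit (by decide)⟩

/-- a primitive cube root of unity -/
noncomputable def om : ℂˣ := exists_om.choose

theorem om_prim : IsPrimitiveRoot om 3 := exists_om.choose_spec

theorem om_zpow {a b : ℤ} : om ^ a = om ^ b ↔ 3 ∣ a - b := by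
  rw [← mul_inv_eq_one, ← _root_.zpow_sub]
  exact om_prim.zpow_eq_one_iff_dvd _

/-- the label with the exponents `x` -/
noncomputable def lb3 (x : V4) : Fin 4 → ℂˣ := coch (toV x) om

theorem lb3_eq {x y : V4} : lb3 x = lb3 y ↔ e3 x y = true := by
  rw [e3_iff, funext_iff]
  exact forall_congr' fun _ => om_zpow

theorem lb3_cube (x : V4) : lb3 x ^ 3 = 1 := by rw [lb3, ← map_pow, om_prim.pow_eq_one, map_one]

theorem lb3_zero : lb3 (0, 0, 0, 0) = 1 := by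
  funext j
  fin_cases j <;> rfl

theorem lb3_sc (n : ℤ) (x : V4) : lb3 (sc n x) = lb3 x ^ n := by
  funext j
  rw [lb3, toV_sc, coch_apply, Pi.smul_apply, smul_eq_mul, mul_comm, _root_.zpow_mul]
  rfl

theorem mon_lb3 (m : M4) (x : V4) : mon (toM m)ᵀ (lb3 x) = lb3 (vm x m) := by
  funext j
  rw [mon_apply, lb3, chr_coch, lb3, toV_vm, coch_apply]
  congr 1
  simp only [transpose_apply, vecMul, dotProduct, mul_comm]

theorem zpow_mod {c : Fin 4 → ℂˣ} (hc : c ^ 3 = 1) (n : ℤ) : c ^ n = c ^ (n % 3) :=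
  zpow_eq_zpow_emod' n hc

theorem mon_smul (n : ℤ) (B : Matrix (Fin 4) (Fin 4) ℤ) (c : Fin 4 → ℂˣ) : mon (n • B)ᵀ c = mon Bᵀ c ^ n := by
  funext j
  rw [mon_apply, transpose_smul, show (n • Bᵀ) j = n • Bᵀ j from rfl, chr_zsmul]
  rfl

theorem sum_ite_filter {α : Type} (Q : α → Bool) (g : α → ℤ) (L : List α) :
    (L.map fun m => if Q m = true then g m else 0).sum = ((L.filter Q).map g).sum := by
  induction L with
  | nil => rfl
  | cons a L ih => by_cases h : Q a = true <;> simp [h, ih]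

theorem sM_eq : ∀ i, sM chevD4 4 i = toM (SG i) := by decide +kernel

theorem L4_eq : L4 = LB.map toM := by decide +kernel

variable {p : ℕ} [Fact p.Prime] {k : Type} [Field k] [CharP k p] [IsAlgClosed k] {Mx : Matrix (Fin 4) (Fin 4) ℤ}
  (X : XF hpD4 p k Mx)

theorem conj_mem_Wl {Y N : Type} [Group Y] [Fintype N] [DecidableEq N] {ρ : Y →* GL N k} {F : MulAut Y} {G : Subgroup Y}
    {D : Datum p ρ F G} (v u : D.W) (l : D.R → ℤ) : v⁻¹ * u * v ∈ Wl D l ↔ D.Wm u *ᵥ (D.Wm v *ᵥ l) = D.Wm v *ᵥ l := by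
  show D.Wm (v⁻¹ * u * v) *ᵥ l = l ↔ _
  rw [D.Wm_mul, D.Wm_mul, ← mulVec_mulVec, ← mulVec_mulVec]
  constructor
  · intro e
    rw [← one_mulVec (D.Wm u *ᵥ _), ← Wm_mul_inv v, ← mulVec_mulVec, e]
  · intro e
    rw [e, mulVec_mulVec, Wm_inv_mul, one_mulVec]

theorem exists_mx (w : X.D.W) : ∃ m ∈ LW, toM m = X.D.Wm w := by
  obtain ⟨L, -, h⟩ := X.exists_word w
  rw [h]
  clear h
  induction L with
  | nil => exact ⟨m1, m1_mem, toM_m1⟩
  | cons i L ih =>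
    obtain ⟨m, h1, h2⟩ := ih
    exact ⟨_, closed m h1 i, by rw [toM_mm, h2, ← sM_eq, List.map_cons, List.prod_cons]⟩

/-- the matrix of an element of the Weyl group -/
noncomputable def mx (w : X.D.W) : M4 := (exists_mx X w).choose

theorem mx_mem (w : X.D.W) : mx X w ∈ LW := (exists_mx X w).choose_spec.1

theorem toM_mx (w : X.D.W) : toM (mx X w) = X.D.Wm w := (exists_mx X w).choose_spec.2

theorem mx_inj : Function.Injective (mx X) := fun a b h => X.Wm_inj (by rw [← toM_mx, ← toM_mx, h])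

theorem mx_mul (a b : X.D.W) : mx X (a * b) = mm (mx X a) (mx X b) :=
  toM_inj (by rw [toM_mm, toM_mx, toM_mx, toM_mx]; exact X.D.Wm_mul a b)

theorem mx_one : mx X 1 = m1 := toM_inj (by rw [toM_mx, toM_m1]; exact X.D.Wm_one)

theorem card_W : Nat.card X.D.W = 192 := card_W_D4

theorem image_mx [Fintype X.D.W] : Finset.univ.image (mx X) = LW.toFinset ∧ LW.Nodup := by
  have h1 : (Finset.univ.image (mx X)).card = 192 := by
    rw [Finset.card_image_of_injective _ (mx_inj X), Finset.card_univ, ← Nat.card_eq_fintype_card, card_W]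
  have h2 : Finset.univ.image (mx X) ⊆ LW.toFinset := fun m hm => by
    obtain ⟨w, -, rfl⟩ := Finset.mem_image.1 hm
    exact List.mem_toFinset.2 (mx_mem X w)
  have h3 := (List.toFinset_card_le LW).trans_eq len_LW
  have h4 := Finset.eq_of_subset_of_card_le h2 (h3.trans_eq h1.symm)
  refine ⟨h4, ?_⟩
  rw [h4, ← len_LW] at h1
  exact Multiset.toFinset_card_eq_card_iff_nodup.1 h1

theorem mx_surj {m : M4} (h : m ∈ LW) : ∃ w, mx X w = m := by
  have := Fintype.ofFinite X.D.W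
  have h1 := List.mem_toFinset.2 h
  rw [← (image_mx X).1] at h1
  simpa using h1

theorem sum_W [Fintype X.D.W] (g : M4 → ℤ) : ∑ w, g (mx X w) = (LW.map g).sum := by
  rw [← List.sum_toFinset g (image_mx X).2, ← (image_mx X).1, Finset.sum_image fun _ _ _ _ h => mx_inj X h]

theorem card_sub {P : X.D.W → Prop} {Q : M4 → Bool} (h : ∀ w, P w ↔ Q (mx X w) = true) :
    Nat.card {w // P w} = LW.countP Q := by
  classical
  have := Fintype.ofFinite X.D.W
  have h1 := sum_W X fun m => if Q m = true then 1 else 0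
  rw [sum_ite_filter, List.map_const', List.sum_replicate, ← List.countP_eq_length_filter, nsmul_eq_mul, mul_one] at h1
  have h2 := card_eq_sum fun w => Q (mx X w) = true
  rw [show P = fun w => Q (mx X w) = true from funext fun w => propext (h w)]
  have h3 := congrArg (Int.cast : ℤ → ℂ) h1
  push_cast at h3
  exact_mod_cast h2.trans h3

/-- the labels -/
noncomputable def lc (t : Fin 5) : Lbl X.D := lb3 (xs t)

theorem lc_cube (t : Fin 5) : lc X t ^ 3 = 1 := lb3_cube _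

theorem rel_iff {v : X.D.W} {x x' : V4} : Rel X.D v (lb3 x) (lb3 x') ↔ e3 (vm x' (mx X v)) x = true := by
  rw [← lb3_eq, ← mon_lb3, toM_mx]
  exact ⟨fun h => tr_unique (D := X.D) (tr_mon _ _) h, fun h => h ▸ tr_mon (D := X.D) (X.D.Wm v) (lb3 x')⟩

theorem mem_Wc_iff {v : X.D.W} {x : V4} : v ∈ Wc X.D (lb3 x) ↔ fx x (mx X v) = true := rel_iff X

theorem mem_Wl_iff {v : X.D.W} {l : V4} : v ∈ Wl X.D (toV l) ↔ mv (mx X v) l = l := by
  rw [← toV_inj.eq_iff, toV_mv, toM_mx]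
  rfl

theorem Wc_eq (t : Fin 5) : Wc X.D (lc X t) = Wl X.D (toV (ls t)) :=
  Subgroup.ext fun v => (mem_Wc_iff X).trans ((stab_eq t _ (mx_mem X v)).1.trans (mem_Wl_iff X).symm)

theorem mem_lc {v : X.D.W} {t : Fin 5} : v ∈ Wc X.D (lc X t) ↔ fx (xs t) (mx X v) = true := mem_Wc_iff X

theorem card_Wc (t : Fin 5) : Nat.card (Wc X.D (lc X t)) = (LS t).length := by
  rw [LS, ← List.countP_eq_length_filter]
  exact card_sub X fun _ => mem_Wc_iff X

theorem index_Wc (t : Fin 5) : ¬ 3 ∣ (Wc X.D (lc X t)).index := fun h => by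
  have h1 := (Wc X.D (lc X t)).card_mul_index
  rw [card_Wc, card_W, len_LS] at h1
  obtain ⟨c, hc⟩ := h
  rw [hc] at h1
  fin_cases t <;> simp at h1 <;> omega

theorem sum_Wc (t : Fin 5) (g : M4 → ℤ) :
    ∑ᶠ u : Wc X.D (lc X t), (g (mx X u) : ℂ) = (((LS t).map g).sum : ℤ) := by
  classical
  have := Fintype.ofFinite X.D.W
  rw [finsum_sub _ fun u => (g (mx X u) : ℂ), LS, ← sum_ite_filter, ← sum_W X]
  push_cast
  simp only [mem_lc]

/-- the class functions -/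
noncomputable def phi (i : Fin 3) (u : X.D.W) : ℂ := ph i (mx X u)

theorem sg_eq_d4 (u : X.D.W) : sg X.D u = d4 (mx X u) := by
  rw [← det_toM, toM_mx]
  rfl

theorem can_phi (i : Fin 3) : Can X.D (phi X i) := fun a h u => by
  have h1 : d4 (mx X (a u)) = d4 (mx X u) := by exact_mod_cast (sg_eq_d4 X _).symm.trans ((h u).trans (sg_eq_d4 X u))
  have h2 : mm (mx X (a u)) (mx X (a u)) = m1 ↔ mm (mx X u) (mx X u) = m1 := by
    rw [← mx_mul, ← mx_mul, ← mx_one X, (mx_inj X).eq_iff, (mx_inj X).eq_iff, ← map_mul, EmbeddingLike.map_eq_one_iff]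
  simp only [phi, ph, h1, h2]

theorem phi_one (i : Fin 3) : ∃ m : ℤ, phi X i 1 = m ∧ ¬ 3 ∣ m :=
  ⟨ph i m1, by rw [phi, mx_one], by revert i; decide +kernel⟩

variable {X} {w₀ : X.D.W} [Fintype ↥(GF X.F ⊤)] {f : Fr X.D} (hA : Api f) (h : Sc X.D w₀)
include h

theorem levi_sub {t : Fin 5} {l : V4} (hl : Wl X.D (toV l) ≤ Wl X.D (toV (ls t))) :
    LeviOK X.D (toV l) w₀ (lc X t) :=
  levi_ok h om_prim.pow_eq_one fun u hu => by
    have := congrArg toV ((stab_eq t _ (mx_mem X u)).2 ((mem_Wl_iff X).1 (hl hu)))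
    rwa [toV_vm, toM_mx] at this

include hA

theorem avg_sub {t : Fin 5} {l : V4} (hl : Wl X.D (toV l) ≤ Wl X.D (toV (ls t))) :
    IsGeneralizedCharacter ↥(GF X.F ⊤) (Rc w₀ f (lc X t) fun u =>
      (((LS t).countP fun v => mv (mx X u) (mv v l) = mv v l : ℕ) : ℂ) / (LW.countP fun m => mv m l = l : ℕ)) := by
  have h1 := hA.levi _ _ _ (levi_sub h hl)
  rw [avg_ind hA h (hl.trans (Wc_eq X t).ge)] at h1
  convert h1 using 4 with u
  · rw [LS, List.countP_filter]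
    refine congrArg _ (card_sub X fun v => ?_).symm
    rw [Bool.and_eq_true, decide_eq_true_iff, mem_lc, and_comm, ← toV_inj.eq_iff, toV_mv, toV_mv, toM_mx, toM_mx]
    exact and_congr_left' (conj_mem_Wl v u _)
  · exact congrArg _ (card_sub X fun v => (mem_Wl_iff X).trans decide_eq_true_iff.symm).symm

theorem gen_Rc (j : Fin 4 ⊕ Fin 3 × Fin 3) :
    IsGeneralizedCharacter ↥(GF X.F ⊤) (Rc w₀ f (lc X (jt j)) (phi X (ji j))) := by
  have h0 : ∀ t, IsGeneralizedCharacter ↥(GF X.F ⊤) (Rc w₀ f (lc X t) (phi X 0)) := fun t => by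
    rw [Rc, Wc_eq, show phi X 0 = fun _ => 1 from funext fun u => by simp [phi, ph]]
    exact hA.levi _ _ _ (levi_sub h le_rfl)
  have h1 : ∀ t, IsGeneralizedCharacter ↥(GF X.F ⊤) (Rc w₀ f (lc X t) (phi X 1)) := fun t => by
    rw [Rc, Wc_eq, show phi X 1 = sg X.D from funext fun u => by simp [phi, ph, sg_eq_d4]]
    exact hA.leviSt _ _ _ (levi_sub h le_rfl)
  rcases j with j | ⟨i, t⟩
  · fin_cases j
    exacts [h0 _, h1 _, h0 _, h1 _]
  · fin_cases i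
    · exact h0 _
    · exact h1 _
    · have h2 := (Sym.genL _).sub_mem
        (avg_sub hA h (t := t4 t) (l := la t) fun u hu =>
          (mem_Wl_iff X).2 (stab_sub t _ (mx_mem X u) (.inl ((mem_Wl_iff X).1 hu))))
        (avg_sub hA h (t := t4 t) (l := lb t) fun u hu =>
          (mem_Wl_iff X).2 (stab_sub t _ (mx_mem X u) (.inr ((mem_Wl_iff X).1 hu))))
      rw [← Rc_sub, Rc_congr f (φ' := phi X 2) fun u hu => ?_] at h2
      · exact h2
      · have h3 := congrArg (Int.cast : ℤ → ℂ)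
          (ind_eq t (mx X u) (List.mem_filter.2 ⟨mx_mem X u, (mem_Wc_iff X).1 hu⟩))
        push_cast at h3
        rw [(len_sub t).1, (len_sub t).2, phi]
        push_cast
        linear_combination h3 / 12

theorem orth_Rc (j j' : Fin 4 ⊕ Fin 3 × Fin 3) (hn : j ≠ j') :
    classInner (Rc w₀ f (lc X (jt j)) (phi X (ji j))) (Rc w₀ f (lc X (jt j')) (phi X (ji j'))) = 0 := by
  by_cases e : jt j = jt j'
  · rw [← e, ip_same hA h (can_phi X _) (lc_cube X _)]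
    have h1 := sum_Wc X (jt j) fun m => ph (ji j') m * ph (ji j) m
    rw [orth j j' e, if_neg hn] at h1
    simp only [phi, map_intCast]
    push_cast at h1
    rw [h1, mul_zero]
  · exact ip_ne hA h (lc_cube X _) fun v hv => by
      have := not_conj _ _ e _ (mx_mem X v)
      rw [(rel_iff X).1 hv] at this
      exact absurd this (by decide)

theorem mem_Rc (hC : Mc f w₀) {M : Ideal AlgInt} (hM : IsPModular 3 M) (j : Fin 4 ⊕ Fin 3 × Fin 3) :
    ∃ χ : IrrCharacter ↥(GF X.F ⊤), Mem M χ ∧ ∃ ε : ℤˣ, χ.1 = ((ε : ℤ) : ℂ) • Rc w₀ f (lc X (jt j)) (phi X (ji j)) := by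
  obtain ⟨m, h1, h2⟩ := phi_one X (ji j)
  refine exists_mem hA h hC hM (can_phi X _) (lc_cube X _) (gen_Rc hA h j) ?_ h1 h2 (index_Wc X _)
  have h1 := sum_Wc X (jt j) fun m => ph (ji j) m * ph (ji j) m
  rw [orth j j rfl, if_pos rfl] at h1
  simp only [phi, map_intCast]
  push_cast at h1
  rw [h1, card_Wc]

omit hA h

theorem adm_iff (hp : p ≠ 3) {A : Matrix (Fin 4) (Fin 4) ℤ} (hA : AdmL p L4 A) :
    ∃ (n : ℤ) (b : M4), n % 3 ∈ [(1 : ℤ), 2] ∧ b ∈ LB ∧ A = n • toM b := by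
  obtain ⟨j, B, hB, rfl⟩ := hA
  rw [L4_eq] at hB
  obtain ⟨b, hb, rfl⟩ := List.mem_map.1 hB
  refine ⟨_, b, ?_, hb, rfl⟩
  have : ¬ (3 : ℤ) ∣ (p : ℤ) ^ j := fun h => hp ((Nat.prime_dvd_prime_iff_eq Nat.prime_three Fact.out).1
    (by exact_mod_cast Int.prime_three.dvd_of_dvd_pow h)).symm
  simp only [List.mem_cons, List.not_mem_nil, or_false]
  omega

theorem det_adm (hp : p ≠ 3) {A : Matrix (Fin 4) (Fin 4) ℤ} (hA : AdmL p L4 A) : ¬ 3 ∣ A.det := fun h => by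
  obtain ⟨n, b, h1, h2, rfl⟩ := adm_iff hp hA
  rw [det_smul, det_toM] at h
  simp only [List.mem_cons, List.not_mem_nil, or_false] at h1
  rcases Int.prime_three.dvd_or_dvd h with h3 | h3
  · have := Int.prime_three.dvd_of_dvd_pow h3
    omega
  · have := det_LB b h2
    omega

theorem mon_adm (n : ℤ) (b : M4) (x : V4) : mon (n • toM b)ᵀ (lb3 x) = lb3 (sc (n % 3) (vm x b)) := by
  rw [mon_smul, mon_lb3, lb3_sc, ← zpow_mod (lb3_cube _)]

variable (X) in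
theorem wf (hp : p ≠ 3) : WF X.D (AdmL p L4) where
  three := by rw [card_W]; decide
  nine := by rw [card_W]; decide
  det _ h := det_adm hp h
  few := ⟨fun i => L4.getD i 1, by
    rintro _ ⟨j, B, hB, rfl⟩
    obtain ⟨i, hi, rfl⟩ := List.getElem_of_mem hB
    exact ⟨⟨i, hi.trans (by decide)⟩, _, congrArg _ (List.getD_eq_getElem _ _ hi).symm⟩⟩
  two σ h := by
    obtain ⟨x, -, h1, h2, x', -, h3, h4⟩ := two_chk _ (mx_mem X σ) (by rw [← mx_mul, ← mx_mul, ← pow_three, h, mx_one])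
    refine ⟨lb3 x, lb3 x', lb3_cube _, lb3_cube _, (mem_Wc_iff X).2 h1, (mem_Wc_iff X).2 h3, fun e => ?_, fun i e => ?_⟩
    · rw [lb3_eq.1 (e.trans lb3_zero.symm)] at h2
      exact absurd h2 (by decide)
    · have h5 := h4 (i % 3) (by simp only [List.mem_cons, List.not_mem_nil, or_false]; omega)
      rw [lb3_eq.1 (e.trans (by rw [lb3_sc, ← zpow_mod (lb3_cube _), zpow_natCast]; rfl))] at h5
      exact absurd h5 (by decide)
  sym σ h0 h := by
    obtain ⟨x, hx, h1, h2, ⟨r, hr, h3, h4⟩, h5, h6⟩ := sym_chk _ (mx_mem X σ) (fun e => h0 (mx_inj X (e.trans (mx_one X).symm)))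
      (by rw [← mx_mul, ← mx_mul, ← pow_three, h, mx_one])
    obtain ⟨r, rfl⟩ := mx_surj X hr
    refine ⟨lb3 x, lb3_cube _, fun e => ?_, (mem_Wc_iff X).2 h1, ⟨r, (mem_Wc_iff X).2 h3, ?_⟩, fun u hu e => ?_,
      fun v A c' hA ht hσ => ?_⟩
    · rw [lb3_eq.1 (e.trans lb3_zero.symm)] at h2
      exact absurd h2 (by decide)
    · rw [← mx_mul, ← mx_mul, (mx_inj X).eq_iff] at h4
      rw [mul_inv_eq_iff_eq_mul, eq_inv_mul_iff_mul_eq, h4]
    · rcases h5 _ (mx_mem X u) ((mem_Wc_iff X).1 hu) (by rw [← mx_mul, ← mx_mul, e]) with h7 | h7 | h7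
      · exact ⟨0, mx_inj X (by rw [h7, pow_zero, mx_one])⟩
      · exact ⟨1, mx_inj X (by rw [h7, pow_one])⟩
      · exact ⟨2, mx_inj X (by rw [h7, pow_two, mx_mul])⟩
    · obtain ⟨n, b, h7, h8, rfl⟩ := adm_iff hp hA
      have h9 : ∀ (L : List (Fin 4)), ∀ x ∈ X3, ∃ x' ∈ X3, mon ((L.map (sM chevD4 4)).prod)ᵀ (lb3 x) = lb3 x' := fun L => by
        induction L with
        | nil => exact fun x hx => ⟨x, hx, by rw [List.map_nil, List.prod_nil, transpose_one, mon_one]⟩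
        | cons i L ih =>
          intro x hx
          obtain ⟨y, hy, e⟩ := X3_W x hx i
          obtain ⟨z, hz, e'⟩ := ih y hy
          exact ⟨z, hz, by rw [List.map_cons, List.prod_cons, transpose_mul, mon_mul, sM_eq, mon_lb3, ← lb3_eq.2 e, e']⟩
      obtain ⟨L, -, hL⟩ := X.exists_word v
      obtain ⟨y, hy, e⟩ := h9 L x hx
      obtain ⟨z, hz, e'⟩ := X3_B y hy b h8 _ h7
      have h10 : c' = lb3 z := (tr_unique ht (tr_mon _ _)).trans (by
        rw [hL]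
        show mon ((L.map (sM chevD4 4)).prod * n • toM b)ᵀ (lb3 x) = lb3 z
        rw [transpose_mul, mon_mul, e, mon_adm, lb3_eq.2 e'])
      subst h10
      refine (h6 z hz ((mem_Wc_iff X).1 hσ)).imp lb3_eq.2 fun e => (lb3_eq.2 e).trans ?_
      show lb3 (sc 2 x) = (lb3 x)⁻¹
      rw [lb3_sc, eq_inv_iff_mul_eq_one, ← _root_.zpow_add_one]
      exact lb3_cube x

include hA h in
theorem move_Rc (hp : p ≠ 3) (h0 : ∀ A, X.D.Wm w₀ * A = A * X.D.Wm w₀) (α : MulAut ↥(chevD4.group k))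
    (A : Matrix (Fin 4) (Fin 4) ℤ) (hα : Au X.D α A) (hd : AdmL p L4 A) (j : Fin 4 ⊕ Fin 3 × Fin 3) :
    ∃ j', Sim j j' ∧ ∀ g, Rc w₀ f (lc X (jt j)) (phi X (ji j)) (hα.aut g) =
      Rc w₀ f (lc X (jt j')) (phi X (ji j')) g := by
  have key : ∀ t t' i, (∃ v, Rel X.D v (mon Aᵀ (lb3 (xs t))) (lc X t')) →
      ∀ g, Rc w₀ f (lc X t) (phi X i) (hα.aut g) = Rc w₀ f (lc X t') (phi X i) g := fun t t' i ⟨v, hv⟩ g => by
    exact (Rc_aut hA h (can_phi X i) (lc_cube X t) hα (det_adm hp hd) (h0 A) (tr_mon _ _) g).trans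
      (congrFun (Rc_rel hA h (can_phi X i) (cube_of_tr (tr_mon _ _) (lc_cube X t)) hv) g)
  obtain ⟨n, b, h1, h2, rfl⟩ := adm_iff hp hd
  obtain ⟨h3, h4⟩ := move b h2 _ h1
  rcases j with j | ⟨i, t⟩
  · obtain ⟨m, hm, e⟩ := h3 (jt (.inl j)) (by revert j; decide)
    obtain ⟨v, rfl⟩ := mx_surj X hm
    exact ⟨.inl j, rfl, key _ _ _ ⟨v, by rw [mon_adm]; exact (rel_iff X).2 e⟩⟩
  · obtain ⟨t', m, hm, e⟩ := h4 t
    obtain ⟨v, rfl⟩ := mx_surj X hm
    exact ⟨.inr (i, t'), rfl, key _ _ _ ⟨v, by rw [mon_adm]; exact (rel_iff X).2 e⟩⟩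

variable (X) in
theorem exists_w0 (hp : p ≠ 3) {e : ℕ} (hM : Mx = (p : ℤ) ^ e • 1) :
    ∃ (w₀ : X.D.W) (q : ℤ), Lie.Sc X.D w₀ q ∧ ∀ A, X.D.Wm w₀ * A = A * X.D.Wm w₀ := by
  have h1 : ¬ (3 : ℤ) ∣ (p : ℤ) ^ e := fun h => hp ((Nat.prime_dvd_prime_iff_eq Nat.prime_three Fact.out).1
    (by exact_mod_cast Int.prime_three.dvd_of_dvd_pow h)).symm
  by_cases h2 : (3 : ℤ) ∣ (p : ℤ) ^ e - 1
  · exact ⟨1, _, ⟨by rw [X.D.Wm_one, one_mul]; exact hM, h2⟩, fun A => by rw [X.D.Wm_one, one_mul, mul_one]⟩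
  · obtain ⟨w, hw⟩ := X.exists_neg_D4
    refine ⟨w, -(p : ℤ) ^ e, ⟨?_, by omega⟩, fun A => ?_⟩
    · rw [hw, neg_smul]
      exact (neg_one_mul X.D.Mx).trans (congrArg _ hM)
    · rw [hw]
      exact (neg_one_mul A).trans (mul_neg_one A).symm

theorem cop_D4 {d : ℕ} {S : Type} [Group S] (s : XS X (AdmL p L4) d S) (hA : Api f) : s.sit.Cop where
  idx := s.sit.idx_of_lbl hA fun cl h1 _ h3 => eq_of_chr X.D fun v => by
    obtain ⟨w, hw⟩ := X.exists_neg_D4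
    have h2 := h1 w v
    rw [hw, show (-1 : Matrix X.D.R X.D.R ℤ) *ᵥ v = -v by rw [neg_mulVec, one_mulVec], chr_neg, inv_eq_iff_mul_eq_one] at h2
    rw [eq_one_of_sq (chr_cube h3 v) h2, map_one]
  ker := by
    rw [(MonoidHom.ker_eq_bot_iff _).2 s.sit_π_inj, Subgroup.card_bot]
    decide

omit [Fintype ↥(GF X.F ⊤)]

theorem fam_D4 (hB : BoxApi) (hp : p ≠ 3) {e d : ℕ} {S : Type} [Group S] (h : Has hpD4 p ((p : ℤ) ^ e • 1) (AdmL p L4) d S)
    {M : Ideal AlgInt} (hM : IsPModular 3 M) : Nonempty (Fam13 M S) := by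
  obtain ⟨k, _, _, _, X, ⟨s⟩⟩ := h
  have := X.finite
  have := Fintype.ofFinite ↥(GF X.F ⊤)
  obtain ⟨f⟩ := nonempty_fr X.D
  have hA := hB f X.D_qs
  obtain ⟨w₀, q, h1, h2⟩ := exists_w0 X hp rfl
  have h3 : Sc X.D w₀ := ⟨q, h1.dvd, h1.eq⟩
  obtain ⟨ψ, h4, h5, h6⟩ := exists_fam (cop_D4 s hA) hA (h1.cardC hp) hM _ Sim (mem_Rc hA h3 (h1.mc f hp) hM)
    (orth_Rc hA h3) (move_Rc hA h3 hp h2)
  exact ⟨⟨ψ, h4, h5, h6⟩⟩

theorem nab_D4 (hB : BoxApi) (hp : p ≠ 3) {e d : ℕ} {A : Type} [Group A] [Finite A] {N : Subgroup A} [N.Normal]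
    (h : Has hpD4 p ((p : ℤ) ^ e • 1) (AdmL p L4) d ↥N) (P : Sylow 3 A) : 27 ≤ nab P := by
  obtain ⟨k, _, _, _, X, ⟨s⟩⟩ := h
  have := X.finite
  have := Fintype.ofFinite ↥(GF X.F ⊤)
  obtain ⟨f⟩ := nonempty_fr X.D
  have hA := hB f X.D_qs
  obtain ⟨w₀, q, h1, -⟩ := exists_w0 X hp rfl
  obtain ⟨L⟩ := exists_loc s.sit hA hp (h1.cardC hp) (fun _ B _ _ => ⟨1, by
    rw [h1.eq, mul_smul_comm, smul_mul_assoc, mul_one, one_mul]⟩) h1.regC (.inl h1.cw_top) A N (MulEquiv.refl _) P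
  exact nab27 L ⟨q, h1.dvd, h1.eq⟩ (wf X hp) hA (cop_D4 s hA)

/-- **the rows for `D₄(q)`** -/
theorem rowAt_D4 (hB : BoxApi) (hp : p ≠ 3) {e d : ℕ} {S : Type} [Group S] [Finite S]
    (h : Has hpD4 p ((p : ℤ) ^ e • 1) (AdmL p L4) d S) : Cl.RowAt S where
  up M _ A _ _ N h1 := fun ⟨i⟩ P h2 => by
    have := h1.normal
    have := nab_D4 hB hp (h.congr i) P
    omega
  lo M hM A _ _ N h1 := fun ⟨i⟩ h2 _ _ => by
    have := h1.normal
    obtain ⟨E⟩ := fam_D4 hB hp (h.congr i) hM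
    rcases h2 with h2 | h2
    · exact ten_le_of_fam hM h2 E
    · exact le_trans (by decide) (twelve_le hM h1.cent h2 E.p4)
  one M hM := (fam_D4 hB hp h hM).elim fun E => E.one

theorem rowAt_plus8 (hB : BoxApi) {F : Type} [Field F] [Fintype F] (hF : ¬ 3 ∣ Fintype.card F) {S : Type} [Group S]
    [Finite S] (i : S ≃* POmega F (quadFormPlus 4 F)) : Cl.RowAt S := by
  obtain ⟨p, e, _, _, h1, -, h2⟩ := DatX.exists_char F hF
  exact rowAt_D4 hB h1 ((has_plus8 h2).congr i)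

end Cfsg.Agent.KZ.ClD
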