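import Cfsg.Agent.KZ.Tool.Up
import Cfsg.Agent.KZ.Alt.Syl
import Cfsg.Agent.Lib.SylowNormalInf

/-!
# KZ: `27 ≤ |P : P'|` if the Weyl group has a Sylow `3`-subgroup of order `3` (helper12)

`Fm N₀ P W` : an abelian subgroup `Tb` of `N1 ≤ N₀` with quotient `W`, both normalised by `P`.
Three cases by the order of `P N₀ / N₀` : `nab_in`, `nab_three`, `nab_big`; `nab27`.
-/

set_option autoImplicit false
set_option linter.unusedSectionVars false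

namespace Cfsg.Agent.KZ.ClD

open Cfsg Cfsg.Agent.KZ.Res
open scoped commutatorElement IsMulCommutative

theorem three_mul_le {R : Type} [Group R] [Finite R] (hR : IsPGroup 3 R) {K K' : Subgroup R} (h : K ≤ K') {x : R}
    (h1 : x ∈ K') (h2 : x ∉ K) : 3 * K'.index ≤ K.index := by
  have : Fact (Nat.Prime 3) := ⟨Nat.prime_three⟩
  obtain ⟨j, hj⟩ := (hR.to_subgroup K').index (K.subgroupOf K')
  have h3 : j ≠ 0 := by
    rintro rfl
    have h4 : K.subgroupOf K' = ⊤ := Subgroup.index_eq_one.1 hj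
    exact h2 (Subgroup.mem_subgroupOf.1 (h4 ▸ Subgroup.mem_top (⟨x, h1⟩ : K')))
  rw [← Subgroup.relIndex_mul_index h, Subgroup.relIndex, hj]
  exact Nat.mul_le_mul_right _ (Nat.le_self_pow h3 3)

theorem index_le_comm {R : Type} [Group R] [Finite R] {K : Subgroup R} (h : commutator R ≤ K) :
    K.index ≤ (commutator R).index :=
  Nat.le_of_dvd (Nat.pos_of_ne_zero Subgroup.index_ne_zero_of_finite) (Subgroup.index_dvd_of_le h)

theorem comm_of_le_nine {R : Type} [Group R] [Finite R] (hR : IsPGroup 3 R) (h : Nat.card R ≤ 9) (a b : R) :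
    a * b = b * a := by
  have : Fact (Nat.Prime 3) := ⟨Nat.prime_three⟩
  obtain ⟨j, hj⟩ := IsPGroup.iff_card.1 hR
  have h1 : j ≤ 2 := by
    by_contra h2
    have := Nat.pow_le_pow_right (show 0 < 3 by decide) (show 3 ≤ j by omega)
    omega
  interval_cases j
  · have := (Nat.card_eq_one_iff_unique.1 hj).1
    exact Subsingleton.elim _ _
  · have := isCyclic_of_prime_card (p := 3) hj
    exact mul_comm' a b
  · have := IsPGroup.isMulCommutative_of_card_eq_prime_sq hj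
    exact mul_comm' a b

theorem eq_one_of_sq {a : ℂˣ} (h3 : a ^ 3 = 1) (h2 : a * a = 1) : a = 1 := by
  rwa [pow_succ, pow_two, h2, one_mul] at h3

variable {A : Type} [Group A] [Finite A]

/-- the local frame -/
structure Fm (N₀ : Subgroup A) (P : Sylow 3 A) (W : Type) [Group W] where
  N1 : Subgroup A
  Tb : Subgroup A
  le : N1 ≤ N₀
  inf : ∀ x ∈ (P : Subgroup A), x ∈ N₀ → x ∈ N1
  norm : ∀ x ∈ (P : Subgroup A), ∀ z ∈ N1, x * z * x⁻¹ ∈ N1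
  Tb_le : Tb ≤ N1
  Tb_norm : ∀ x ∈ (P : Subgroup A), ∀ t ∈ Tb, x * t * x⁻¹ ∈ Tb
  comm : ∀ a ∈ Tb, ∀ b ∈ Tb, a * b = b * a
  w : A → W
  w_mul : ∀ a ∈ N1, ∀ b ∈ N1, w (a * b) = w a * w b
  w_surj : ∀ v, ∃ a ∈ N1, w a = v
  w_ker : ∀ a ∈ N1, w a = 1 ↔ a ∈ Tb
  three : 3 ∣ Nat.card W
  nine : ¬ 9 ∣ Nat.card W

namespace Fm

variable {N₀ : Subgroup A} [N₀.Normal] {P : Sylow 3 A} {W : Type} [Group W] (L : Fm N₀ P W)

/-- the homomorphism -/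
def ω : ↥L.N1 →* W := MonoidHom.mk' (fun a => L.w a) fun a b => L.w_mul a a.2 b b.2

theorem ω_surj : Function.Surjective L.ω := fun v => let ⟨a, h, e⟩ := L.w_surj v; ⟨⟨a, h⟩, e⟩

include L in
theorem finite : Finite W := Finite.of_surjective _ L.ω_surj

theorem w_inv {a : A} (h : a ∈ L.N1) : L.w a⁻¹ = (L.w a)⁻¹ := L.ω.map_inv ⟨a, h⟩

theorem w_pow {a : A} (h : a ∈ L.N1) (i : ℕ) : L.w (a ^ i) = L.w a ^ i := L.ω.map_pow ⟨a, h⟩ i

theorem w_conj {a b : A} (ha : a ∈ L.N1) (hb : b ∈ L.N1) : L.w (a * b * a⁻¹) = L.w a * L.w b * (L.w a)⁻¹ := by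
  rw [L.w_mul _ (mul_mem ha hb) _ (inv_mem ha), L.w_mul _ ha _ hb, L.w_inv ha]

theorem mem_Tb {a b : A} (ha : a ∈ L.N1) (hb : b ∈ L.N1) (h : L.w a = L.w b) : a⁻¹ * b ∈ L.Tb :=
  (L.w_ker _ (mul_mem (inv_mem ha) hb)).1 (by rw [L.w_mul _ (inv_mem ha) _ hb, L.w_inv ha, h, inv_mul_cancel])

theorem conj_Tb {a t : A} (ha : a ∈ L.N1) (ht : t ∈ L.Tb) : a * t * a⁻¹ ∈ L.Tb :=
  (L.w_ker _ (mul_mem (mul_mem ha (L.Tb_le ht)) (inv_mem ha))).1 (by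
    rw [L.w_conj ha (L.Tb_le ht), (L.w_ker _ (L.Tb_le ht)).2 ht, mul_one, mul_inv_cancel])

theorem not_dvd : ¬ 3 ∣ ((P : Subgroup A).subgroupOf L.N1).index := fun h => by
  have : Fact (Nat.Prime 3) := ⟨Nat.prime_three⟩
  refine Lib.SylowNormalInf.not_dvd_relIndex P N₀ ?_
  have h1 : (P : Subgroup A) ⊓ N₀ = (P : Subgroup A) ⊓ L.N1 :=
    le_antisymm (fun x hx => ⟨hx.1, L.inf x hx.1 hx.2⟩) (inf_le_inf_left _ L.le)
  rw [← Subgroup.inf_relIndex_right, h1, ← Subgroup.relIndex_mul_relIndex _ _ _ inf_le_right L.le,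
    Subgroup.inf_relIndex_right]
  exact Dvd.dvd.mul_right h _

theorem exists_pow : ∃ m : ℕ, ¬ 3 ∣ m ∧ ∀ t ∈ L.Tb, t ^ m ∈ (P : Subgroup A) := by
  have : Fact (Nat.Prime 3) := ⟨Nat.prime_three⟩
  have hn : (L.Tb.subgroupOf L.N1).Normal := ⟨fun t ht a => L.conj_Tb a.2 ht⟩
  have h1 := Lib.SylowNormalInf.not_dvd_relIndex ((P.2.comap_subtype (K := L.N1)).toSylow L.not_dvd)
    (L.Tb.subgroupOf L.N1)
  refine ⟨_, h1, fun t ht => ?_⟩
  have h2 : (((P : Subgroup A).subgroupOf L.N1).subgroupOf (L.Tb.subgroupOf L.N1)).Normal := ⟨fun a ha b => by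
    have : (b * a * b⁻¹ : ↥(L.Tb.subgroupOf L.N1)) = a := Subtype.ext (Subtype.ext (by
      show (b : A) * a * (b : A)⁻¹ = a
      rw [L.comm (b : A) b.2 (a : A) a.2, mul_inv_cancel_right]))
    rwa [this]⟩
  exact Subgroup.pow_index_mem (((P : Subgroup A).subgroupOf L.N1).subgroupOf (L.Tb.subgroupOf L.N1))
    ⟨⟨t, L.Tb_le ht⟩, ht⟩

theorem exists_s : ∃ s ∈ (P : Subgroup A), s ∈ L.N1 ∧ L.w s ≠ 1 ∧ L.w s ^ 3 = 1 ∧
    ∀ y ∈ (P : Subgroup A), y ∈ L.N1 → ∃ i : ℕ, L.w y = L.w s ^ i := by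
  have : Fact (Nat.Prime 3) := ⟨Nat.prime_three⟩
  have := L.finite
  let R := ((P : Subgroup A).subgroupOf L.N1).map L.ω
  have h1 : ¬ 3 ∣ R.index := fun h => L.not_dvd (h.trans (Subgroup.index_map_dvd _ L.ω_surj))
  obtain ⟨j, hj⟩ := IsPGroup.iff_card.1 ((P.2.comap_subtype (K := L.N1)).map L.ω)
  have hj' : Nat.card R = 3 ^ j := hj
  have h2 : Nat.card R = 3 := by
    have h3 := R.card_mul_index
    rcases j with _ | _ | j
    · exact absurd (by have := L.three; rw [← h3, hj'] at this; simpa using this) h1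
    · simpa using hj'
    · exact absurd (by rw [← h3, hj', pow_succ, pow_succ, mul_assoc (3 ^ j)]; exact ((dvd_mul_left _ _).mul_right _)) L.nine
  have := isCyclic_of_prime_card (p := 3) h2
  obtain ⟨⟨g, ⟨s, hs, rfl⟩⟩, hg⟩ := IsCyclic.exists_monoid_generator (α := R)
  refine ⟨s, hs, s.2, fun h => ?_, ?_, fun y hy hy' => ?_⟩
  · have h4 : ∀ x : R, x = 1 := fun x => by
      obtain ⟨i, rfl⟩ := hg x
      exact Subtype.ext (by show L.w s ^ i = 1; rw [h, one_pow])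
    have : Unique R := ⟨⟨1⟩, h4⟩
    rw [Nat.card_unique] at h2
    omega
  · have := pow_card_eq_one' (x := (⟨L.ω s, s, hs, rfl⟩ : R))
    rw [h2] at this
    exact congrArg Subtype.val this
  · obtain ⟨i, hi⟩ := hg ⟨L.ω ⟨y, hy'⟩, ⟨y, hy'⟩, hy, rfl⟩
    exact ⟨i, (congrArg Subtype.val hi).symm⟩

/-- the action of `P` on `W` -/
noncomputable def kf (x : A) (v : W) : W := L.w (x * (L.w_surj v).choose * x⁻¹)

theorem kf_w {x z : A} (hx : x ∈ (P : Subgroup A)) (hz : z ∈ L.N1) : L.kf x (L.w z) = L.w (x * z * x⁻¹) := by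
  obtain ⟨h1, h2⟩ := (L.w_surj (L.w z)).choose_spec
  have h3 := L.Tb_norm x hx _ (L.mem_Tb h1 hz h2)
  have h4 := L.w_mul _ (L.norm x hx _ h1) _ (L.Tb_le h3)
  rw [(L.w_ker _ (L.Tb_le h3)).2 h3, mul_one] at h4
  rw [kf, ← h4]
  congr 1
  group

/-- the action of `P` on `W` -/
@[reducible] noncomputable def act : MulDistribMulAction ↥(P : Subgroup A) W where
  smul x v := L.kf x v
  one_smul v := by
    obtain ⟨z, hz, rfl⟩ := L.w_surj v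
    exact (L.kf_w (one_mem _) hz).trans (by simp)
  mul_smul x y v := by
    obtain ⟨z, hz, rfl⟩ := L.w_surj v
    show L.kf (x * y) _ = L.kf x (L.kf y _)
    rw [L.kf_w (mul_mem x.2 y.2) hz, L.kf_w y.2 hz, L.kf_w x.2 (L.norm _ y.2 _ hz)]
    congr 1
    group
  smul_mul x u v := by
    obtain ⟨z, hz, rfl⟩ := L.w_surj v
    obtain ⟨y, hy, rfl⟩ := L.w_surj u
    show L.kf x _ = L.kf x _ * L.kf x _
    rw [← L.w_mul _ hy _ hz, L.kf_w x.2 (mul_mem hy hz), L.kf_w x.2 hy, L.kf_w x.2 hz,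
      ← L.w_mul _ (L.norm _ x.2 _ hy) _ (L.norm _ x.2 _ hz)]
    congr 1
    group
  smul_one x := by
    show L.kf x 1 = 1
    rw [← (L.w_ker 1 (one_mem _)).2 (one_mem _), L.kf_w x.2 (one_mem _)]
    simp

/-- the action of `P` on `W` -/
noncomputable def κ : ↥(P : Subgroup A) →* MulAut W := @MulDistribMulAction.toMulAut _ _ _ _ L.act

theorem κ_w (x : ↥(P : Subgroup A)) {z : A} (hz : z ∈ L.N1) : L.κ x (L.w z) = L.w (x * z * (x : A)⁻¹) := L.kf_w x.2 hz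

theorem w_fix {s x : A} (hs : s ∈ (P : Subgroup A)) (hs1 : s ∈ L.N1) (h3 : L.w s ^ 3 = 1)
    (h : ∀ y ∈ (P : Subgroup A), y ∈ L.N1 → ∃ i : ℕ, L.w y = L.w s ^ i) (hx : x ∈ (P : Subgroup A)) :
    L.w (x * s * x⁻¹) = L.w s := by
  obtain ⟨i, hi⟩ := h _ (mul_mem (mul_mem hx hs) (inv_mem hx)) (L.norm x hx s hs1)
  obtain ⟨j, hj⟩ := P.2 ⟨x, hx⟩
  have h1 : ∀ n : ℕ, L.κ (⟨x, hx⟩ ^ n) (L.w s) = L.w s ^ i ^ n := fun n => by
    induction n with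
    | zero => simp
    | succ n ih => rw [pow_succ', map_mul, MulAut.mul_apply, ih, map_pow, L.κ_w _ hs1, hi, ← pow_mul, pow_succ']
  have h2 := h1 (3 ^ j)
  rw [hj, map_one, MulAut.one_apply] at h2
  have h4 : i ^ 3 ^ j ≡ i [MOD 3] := by
    have : Fact (Nat.Prime 3) := ⟨Nat.prime_three⟩
    rw [← ZMod.natCast_eq_natCast_iff, Nat.cast_pow, ZMod.pow_card_pow]
  rw [pow_eq_pow_mod _ h3, h4, ← pow_eq_pow_mod _ h3] at h2
  rw [hi, ← h2]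

/-- `9 ≤ |P N₀ / N₀|` -/
theorem nab_big (h9 : 9 ≤ (N₀.subgroupOf (P : Subgroup A)).index) (hc : ∀ σ : W, σ ≠ 1 → σ ^ 3 = 1 → ∃ v, v * σ ≠ σ * v)
    {ι : Type} [Finite ι] (hι : Nat.card ι ≤ 8) (a : ι → W → W)
    (ha : ∀ x ∈ (P : Subgroup A), ∃ i v, ∀ z ∈ L.N1, L.w (x * z * x⁻¹) = v * a i (L.w z) * v⁻¹) : 27 ≤ nab P := by
  have : Fact (Nat.Prime 3) := ⟨Nat.prime_three⟩
  have := L.finite
  have hH : IsPGroup 3 L.κ.range := P.2.of_surjective _ L.κ.rangeRestrict_surjective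
  let I := (MulAut.conj : W →* MulAut W).range.subgroupOf L.κ.range
  have h1 : Nat.card I ≤ 3 := by
    obtain ⟨j, hj⟩ := IsPGroup.iff_card.1 (hH.to_subgroup I)
    have h2 : Nat.card I ∣ Nat.card W :=
      (Subgroup.card_comap_dvd_of_injective _ _ (Subgroup.subtype_injective _)).trans (Subgroup.card_range_dvd _)
    rw [hj] at h2 ⊢
    rcases j with _ | _ | j
    · simp
    · simp
    · exact absurd ((show 9 ∣ 3 ^ (j + 1 + 1) from ⟨3 ^ j, by ring⟩).trans h2) L.nine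
  have h2 : I.index ≤ 3 := by
    obtain ⟨j, hj⟩ := hH.index I
    have h3 : ∀ y : L.κ.range, ∃ i v, ∀ u, (y⁻¹ : L.κ.range).1 u = v * a i u * v⁻¹ := fun y => by
      obtain ⟨x, hx⟩ := (y⁻¹).2
      obtain ⟨i, v, h⟩ := ha x x.2
      refine ⟨i, v, fun u => ?_⟩
      obtain ⟨z, hz, rfl⟩ := L.w_surj u
      rw [← hx, L.κ_w _ hz, h z hz]
    choose i v h3 using h3
    have h4 : Function.Injective fun q : L.κ.range ⧸ I => i q.out := fun q q' e => by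
      rw [← q.out_eq, ← q'.out_eq]
      refine Quotient.sound (QuotientGroup.leftRel_apply.2 ⟨v q.out * (v q'.out)⁻¹, MulEquiv.ext fun u => ?_⟩)
      obtain ⟨u, rfl⟩ := (q'.out⁻¹ : L.κ.range).1.surjective u
      have e' : i q.out = i q'.out := e
      show _ = (q.out⁻¹ : L.κ.range).1 ((q'.out * q'.out⁻¹ : L.κ.range).1 u)
      rw [mul_inv_cancel, h3, h3, e', MulAut.conj_apply]
      simp [mul_assoc]
    have h5 : I.index ≤ 8 := (Nat.card_le_card_of_injective _ h4).trans hι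
    rw [hj] at h5 ⊢
    rcases j with _ | _ | j
    · simp
    · simp
    · have := Nat.pow_le_pow_right (show 0 < 3 by decide) (show 2 ≤ j + 1 + 1 by omega)
      omega
  have h3 : commutator ↥(P : Subgroup A) ≤ L.κ.ker := by
    have h4 : Nat.card L.κ.range ≤ 9 := by
      rw [← I.card_mul_index]
      exact Nat.mul_le_mul h1 h2
    refine Subgroup.commutator_le.2 fun x _ y _ => ?_
    have := congrArg Subtype.val (comm_of_le_nine hH h4 ⟨_, x, rfl⟩ ⟨_, y, rfl⟩)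
    rw [MonoidHom.mem_ker, map_commutatorElement, commutatorElement_eq_one_iff_mul_comm]
    exact this
  let π := QuotientGroup.mk' (N₀.subgroupOf (P : Subgroup A))
  have h4 : 9 ≤ ((commutator _).comap π).index := by
    rw [Subgroup.index_comap_of_surjective _ (QuotientGroup.mk'_surjective _)]
    exact (Alt.nine_le_or (P.2.to_quotient _)).elim id fun h => h ▸ h9
  have h5 : commutator ↥(P : Subgroup A) ≤ (commutator _).comap π :=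
    Subgroup.commutator_le.2 fun x _ y _ => by
      rw [Subgroup.mem_comap, map_commutatorElement]
      exact Subgroup.commutator_mem_commutator trivial trivial
  obtain ⟨s, hs, hs1, h6, h7, -⟩ := L.exists_s
  obtain ⟨u, hu⟩ := hc _ h6 h7
  have h8 := three_mul_le P.2 (inf_le_left : (commutator _).comap π ⊓ L.κ.ker ≤ _) (x := ⟨s, hs⟩)
    (by rw [Subgroup.mem_comap, show π ⟨s, hs⟩ = 1 from (QuotientGroup.eq_one_iff _).2 (L.le hs1)]; exact one_mem _) fun h => by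
      obtain ⟨z, hz, rfl⟩ := L.w_surj u
      have h8 := L.κ_w ⟨s, hs⟩ hz
      rw [h.2, MulAut.one_apply, L.w_conj hs1 hz, eq_mul_inv_iff_mul_eq] at h8
      exact hu h8
  have h10 := index_le_comm (le_inf h5 h3)
  show 27 ≤ (commutator _).index
  omega

/-- a character of `Tb` of order dividing `3` -/
structure Ch (θ : A → ℂˣ) : Prop where
  mul : ∀ a ∈ L.Tb, ∀ b ∈ L.Tb, θ (a * b) = θ a * θ b
  cube : ∀ a ∈ L.Tb, θ a ^ 3 = 1

/-- `x` fixes `θ` -/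
def Fix (x : A) (θ : A → ℂˣ) : Prop := ∀ t ∈ L.Tb, x * t * x⁻¹ ∈ L.Tb ∧ θ (x * t * x⁻¹) = θ t

variable {L} {θ : A → ℂˣ}

/-- the homomorphism -/
def Ch.hom (h : L.Ch θ) : ↥L.Tb →* ℂˣ := MonoidHom.mk' (fun a => θ a) fun a b => h.mul a a.2 b b.2

theorem Ch.inv (h : L.Ch θ) {a : A} (ha : a ∈ L.Tb) : θ a⁻¹ = (θ a)⁻¹ := h.hom.map_inv ⟨a, ha⟩

theorem Ch.pow (h : L.Ch θ) {a : A} (ha : a ∈ L.Tb) (i : ℕ) : θ (a ^ i) = θ a ^ i := h.hom.map_pow ⟨a, ha⟩ i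

/-- the kernel inside `P` -/
def Ch.ker (h : L.Ch θ) : Subgroup ↥(P : Subgroup A) := (h.hom.ker.map L.Tb.subtype).subgroupOf P

theorem Ch.mem_ker (h : L.Ch θ) {x : ↥(P : Subgroup A)} : x ∈ h.ker ↔ (x : A) ∈ L.Tb ∧ θ x = 1 :=
  ⟨fun ⟨a, h1, h2⟩ => (show (a : A) = x from h2) ▸ ⟨a.2, h1⟩, fun h1 => ⟨⟨x, h1.1⟩, h1.2, rfl⟩⟩

theorem Ch.eq_one (h : L.Ch θ) (h1 : ∀ t ∈ L.Tb, t ∈ (P : Subgroup A) → θ t = 1) : ∀ t ∈ L.Tb, θ t = 1 := fun t ht => by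
  obtain ⟨m, h2, h3⟩ := L.exists_pow
  have h4 := h1 _ (pow_mem ht m) (h3 t ht)
  rw [h.pow ht] at h4
  have := pow_gcd_eq_one.2 ⟨h.cube t ht, h4⟩
  rwa [(Nat.Prime.coprime_iff_not_dvd Nat.prime_three).2 h2, pow_one] at this

theorem Fix.mul {x y : A} (hx : L.Fix x θ) (hy : L.Fix y θ) : L.Fix (x * y) θ := fun t ht => by
  rw [show x * y * t * (x * y)⁻¹ = x * (y * t * y⁻¹) * x⁻¹ by group]
  exact ⟨(hx _ (hy t ht).1).1, (hx _ (hy t ht).1).2.trans (hy t ht).2⟩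

theorem fix_Tb {x : A} (hx : x ∈ L.Tb) : L.Fix x θ := fun t ht => by
  rw [L.comm x hx t ht, mul_inv_cancel_right]
  exact ⟨ht, rfl⟩

theorem Fix.pow {x : A} (hx : L.Fix x θ) (i : ℕ) : L.Fix (x ^ i) θ := by
  induction i with
  | zero => exact pow_zero x ▸ fix_Tb (one_mem _)
  | succ i ih => exact pow_succ x i ▸ ih.mul hx

theorem Fix.inv {x : A} (hx : L.Fix x θ) : L.Fix x⁻¹ θ := by
  rw [inv_eq_of_mul_eq_one_right (show x * x ^ (orderOf x - 1) = 1 by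
    rw [← pow_succ', Nat.sub_add_cancel (orderOf_pos x), pow_orderOf_eq_one])]
  exact hx.pow _

theorem Ch.normal (h : L.Ch θ) (hP : ∀ x ∈ (P : Subgroup A), L.Fix x θ) : h.ker.Normal :=
  ⟨fun _ ha x => h.mem_ker.2 ⟨(hP x x.2 _ (h.mem_ker.1 ha).1).1, (hP x x.2 _ (h.mem_ker.1 ha).1).2.trans (h.mem_ker.1 ha).2⟩⟩

theorem Ch.comm_mem (h : L.Ch θ) {x a : ↥(P : Subgroup A)} (hx : L.Fix x θ) (ha : (a : A) ∈ L.Tb) : ⁅x, a⁆ ∈ h.ker :=
  h.mem_ker.2 ⟨mul_mem (hx _ ha).1 (inv_mem ha), by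
    show θ (x * a * (x : A)⁻¹ * (a : A)⁻¹) = 1
    rw [h.mul _ (hx _ ha).1 _ (inv_mem ha), (hx _ ha).2, h.inv ha, mul_inv_cancel]⟩

variable (L)

/-- `P ≤ N₀` -/
theorem nab_in (hP : (P : Subgroup A) ≤ N₀) (h : ∀ s ∈ L.N1, L.w s ^ 3 = 1 → ∃ θ θ' : A → ℂˣ, L.Ch θ ∧ L.Ch θ' ∧
    L.Fix s θ ∧ L.Fix s θ' ∧ (∃ t ∈ L.Tb, θ t ≠ 1) ∧ ∀ i : ℕ, ∃ t ∈ L.Tb, θ' t ≠ θ t ^ i) : 27 ≤ nab P := by
  obtain ⟨s, hs, hs1, h1, h2, h3⟩ := L.exists_s
  obtain ⟨θ, θ', c, c', f, f', ⟨t, ht, n⟩, n'⟩ := h s hs1 h2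
  have h4 : ∀ x ∈ (P : Subgroup A), ∃ i : ℕ, (s ^ i)⁻¹ * x ∈ L.Tb := fun x hx =>
    let ⟨i, hi⟩ := h3 x hx (L.inf x hx (hP hx))
    ⟨i, L.mem_Tb (pow_mem hs1 i) (L.inf x hx (hP hx)) (by rw [L.w_pow hs1, hi])⟩
  have h5 : ∀ {θ : A → ℂˣ}, L.Fix s θ → ∀ x ∈ (P : Subgroup A), L.Fix x θ := fun f x hx => by
    obtain ⟨i, hi⟩ := h4 x hx
    simpa using (f.pow i).mul (fix_Tb hi)
  have := c.normal (h5 f)
  have := c'.normal (h5 f')
  have h6 : L.Tb.subgroupOf (P : Subgroup A) ⊔ Subgroup.zpowers ⟨s, hs⟩ = ⊤ := eq_top_iff.2 fun x _ => by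
    obtain ⟨i, hi⟩ := h4 x x.2
    rw [show x = ⟨s, hs⟩ ^ i * ((⟨s, hs⟩ ^ i)⁻¹ * x) by group]
    exact mul_mem (Subgroup.mem_sup_right (pow_mem (Subgroup.mem_zpowers _) i)) (Subgroup.mem_sup_left hi)
  have h7 := index_le_comm (comm_le_of_gen h6 (R := c.ker ⊓ c'.ker)
    (fun a ha b hb => ⟨c.comm_mem (fix_Tb ha) hb, c'.comm_mem (fix_Tb ha) hb⟩)
    fun a ha => ⟨c.comm_mem f ha, c'.comm_mem f' ha⟩)
  obtain ⟨t, ht, htP, n⟩ : ∃ t ∈ L.Tb, t ∈ (P : Subgroup A) ∧ θ t ≠ 1 := by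
    by_contra hn
    push Not at hn
    exact n (c.eq_one hn t ht)
  obtain ⟨u, hu, hu'⟩ : ∃ u ∈ c.ker, u ∉ c'.ker := by
    by_contra hn
    push Not at hn
    have hprim : IsPrimitiveRoot (θ t) 3 := by
      have : Fact (Nat.Prime 3) := ⟨Nat.prime_three⟩
      rw [← orderOf_eq_prime (c.cube t ht) n]
      exact IsPrimitiveRoot.orderOf _
    have hex : ∀ z : ℂˣ, z ^ 3 = 1 → ∃ i : ℕ, θ t ^ i = z := fun z hz =>
      let ⟨i, _, hi⟩ := hprim.eq_pow_of_mem_rootsOfUnity ((mem_rootsOfUnity 3 z).2 hz)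
      ⟨i, hi⟩
    obtain ⟨i, hi⟩ := hex _ (c'.cube t ht)
    obtain ⟨y, hy, n'⟩ := n' i
    have c2 : L.Ch fun a => θ' a * (θ a ^ i)⁻¹ := ⟨fun a ha b hb => by
      simp only [c.mul a ha b hb, c'.mul a ha b hb, mul_pow, mul_inv]; exact mul_mul_mul_comm _ _ _ _,
      fun a ha => by rw [mul_pow, c'.cube a ha, inv_pow, ← pow_mul, mul_comm i, pow_mul, c.cube a ha]; simp⟩
    refine n' (mul_inv_eq_one.1 (c2.eq_one (fun x hx hxP => ?_) y hy))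
    obtain ⟨j, hj⟩ := hex _ (c.cube x hx)
    have h8 := (c'.mem_ker.1 (hn ⟨(t ^ j)⁻¹ * x, mul_mem (inv_mem (pow_mem htP j)) hxP⟩
      (c.mem_ker.2 ⟨mul_mem (inv_mem (pow_mem ht j)) hx, by
        show θ ((t ^ j)⁻¹ * x) = 1
        rw [c.mul _ (inv_mem (pow_mem ht j)) _ hx, c.inv (pow_mem ht j), c.pow ht, hj, inv_mul_cancel]⟩))).2
    change θ' ((t ^ j)⁻¹ * x) = 1 at h8
    rw [c'.mul _ (inv_mem (pow_mem ht j)) _ hx, c'.inv (pow_mem ht j), c'.pow ht, inv_mul_eq_one] at h8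
    show θ' x * (θ x ^ i)⁻¹ = 1
    rw [← h8, ← hj, ← hi, ← pow_mul, ← pow_mul, mul_comm i, mul_inv_cancel]
  have h8 := three_mul_le P.2 (inf_le_left : c.ker ⊓ c'.ker ≤ _) hu fun h => hu' h.2
  have h9 := three_mul_le P.2 (K := c.ker) (K' := L.Tb.subgroupOf P) (fun x hx => (c.mem_ker.1 hx).1) (x := ⟨t, htP⟩) ht
    fun h => n (c.mem_ker.1 h).2
  have h10 := three_mul_le P.2 (K := L.Tb.subgroupOf P) le_top (x := ⟨s, hs⟩) trivial fun h => h1 ((L.w_ker s hs1).2 h)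
  rw [Subgroup.index_top] at h10
  show 27 ≤ (commutator _).index
  omega

/-- `|P N₀ / N₀| = 3` -/
theorem nab_three (hP : (N₀.subgroupOf (P : Subgroup A)).index = 3)
    (h : ∀ s ∈ L.N1, L.w s ≠ 1 → L.w s ^ 3 = 1 → ∃ (θ : A → ℂˣ) (U : Subgroup W), L.Ch θ ∧ (∃ t ∈ L.Tb, θ t ≠ 1) ∧
      (∀ z ∈ L.N1, L.w z ∈ U ↔ L.Fix z θ) ∧ L.w s ∈ U ∧ (∃ r ∈ U, r * L.w s * r⁻¹ = (L.w s)⁻¹) ∧
      (∀ u ∈ U, u * L.w s = L.w s * u → ∃ i : ℕ, u = L.w s ^ i) ∧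
      ∀ x ∈ (P : Subgroup A), L.w (x * s * x⁻¹) = L.w s → L.Fix x θ ∨ ∀ t ∈ L.Tb, θ (x * t * x⁻¹) = (θ t)⁻¹) :
    27 ≤ nab P := by
  obtain ⟨s, hs, hs1, h1, h2, h3⟩ := L.exists_s
  obtain ⟨θ, U, c, ⟨t₀, ht₀, n⟩, hU, hsU, ⟨r, hr, hr'⟩, hC, hF⟩ := h s hs1 h1 h2
  obtain ⟨r, hr1, rfl⟩ := L.w_surj r
  have h4 : ∀ x ∈ (P : Subgroup A), L.Fix x θ := fun x hx => (hF x hx (L.w_fix hs hs1 h2 h3 hx)).elim id fun hi => by
    obtain ⟨j, hj⟩ := P.2 ⟨x, hx⟩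
    have h5 : L.Fix (x * x) θ := fun t ht => by
      rw [show x * x * t * (x * x)⁻¹ = x * (x * t * x⁻¹) * x⁻¹ by group]
      exact ⟨L.Tb_norm x hx _ (L.Tb_norm x hx t ht), by rw [hi _ (L.Tb_norm x hx t ht), hi t ht, inv_inv]⟩
    obtain ⟨m, hm⟩ : Odd (3 ^ j) := Odd.pow (by decide)
    have h6 : x ^ 3 ^ j = 1 := congrArg Subtype.val hj
    rw [show x = (x * x) ^ (m + 1) by rw [← pow_two, ← pow_mul, show 2 * (m + 1) = 3 ^ j + 1 by omega, pow_succ, h6, one_mul]]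
    exact h5.pow _
  have := c.normal h4
  have fs := h4 s hs
  have fr := (hU r hr1).1 hr
  have h5 : ∀ x : ↥(P : Subgroup A), ⁅x, (⟨s, hs⟩ : ↥(P : Subgroup A))⁆ ∈ c.ker := fun ⟨x, hx⟩ => by
    have e0 := L.w_fix hs hs1 h2 h3 hx
    have m1 := L.norm x hx s hs1
    have m2 := L.norm x hx r hr1
    have m3 : s⁻¹ * (x * s * x⁻¹) ∈ L.Tb := L.mem_Tb hs1 m1 e0.symm
    have m4 : s * (r * s * r⁻¹) ∈ L.Tb := by
      simpa using L.mem_Tb (inv_mem hs1) (mul_mem (mul_mem hr1 hs1) (inv_mem hr1)) (by rw [L.w_inv hs1, L.w_conj hr1 hs1, hr'])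
    have fr' : L.Fix (x * r * x⁻¹) θ := ((h4 x hx).mul fr).mul (h4 _ (inv_mem hx))
    have e1 : L.w (x * r * x⁻¹) * L.w s * (L.w (x * r * x⁻¹))⁻¹ = (L.w s)⁻¹ := by
      have e2 := congrArg (L.κ ⟨x, hx⟩) hr'
      rwa [map_mul, map_mul, map_inv, map_inv, L.κ_w _ hs1, L.κ_w _ hr1, e0] at e2
    obtain ⟨i, hi⟩ := hC ((L.w r)⁻¹ * L.w (x * r * x⁻¹)) (mul_mem (inv_mem hr) ((hU _ m2).2 fr')) (by
      rw [mul_assoc, eq_mul_of_mul_inv_eq e1, ← hr']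
      group)
    have m5 : (r * s ^ i)⁻¹ * (x * r * x⁻¹) ∈ L.Tb := L.mem_Tb (mul_mem hr1 (pow_mem hs1 i)) m2 (by
      rw [L.w_mul _ hr1 _ (pow_mem hs1 i), L.w_pow hs1, ← hi, mul_inv_cancel_left])
    generalize ht : (r * s ^ i)⁻¹ * (x * r * x⁻¹) = t at m5
    have e2 : x * r * x⁻¹ = r * s ^ i * t := by rw [← ht]; group
    have m6 : s⁻¹ * t * s⁻¹⁻¹ * t⁻¹ ∈ L.Tb := mul_mem (fs.inv t m5).1 (inv_mem m5)
    have e3 : θ (s⁻¹ * t * s⁻¹⁻¹ * t⁻¹) = 1 := by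
      rw [c.mul _ (fs.inv t m5).1 _ (inv_mem m5), (fs.inv t m5).2, c.inv m5, mul_inv_cancel]
    have f1 := fr.mul (fs.pow i) _ m6
    have f2 := fr' _ m3
    have f3 := fs _ (inv_mem m3)
    have f4 := h4 x hx _ m4
    have e4 : s * (r * s * r⁻¹) * (r * s ^ i * (s⁻¹ * t * s⁻¹⁻¹ * t⁻¹) * (r * s ^ i)⁻¹) =
        s * (x * r * x⁻¹) * s * (x * r * x⁻¹)⁻¹ := by
      rw [e2]
      group
    have e5 : s * (r * s * r⁻¹) * (r * s ^ i * (s⁻¹ * t * s⁻¹⁻¹ * t⁻¹) * (r * s ^ i)⁻¹) *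
        (x * r * x⁻¹ * (s⁻¹ * (x * s * x⁻¹)) * (x * r * x⁻¹)⁻¹) =
        s * (s⁻¹ * (x * s * x⁻¹))⁻¹ * s⁻¹ * (x * (s * (r * s * r⁻¹)) * x⁻¹) := by
      rw [e4]
      group
    have e6 := congrArg θ e5
    rw [c.mul _ (mul_mem m4 f1.1) _ f2.1, c.mul _ m4 _ f1.1, c.mul _ f3.1 _ f4.1, f1.2, f2.2, f3.2, f4.2, e3, mul_one,
      c.inv m3, mul_comm, mul_left_inj, eq_inv_iff_mul_eq_one] at e6
    have f5 := fs _ m3
    rw [eq_one_of_sq (c.cube _ m3) e6, show s * (s⁻¹ * (x * s * x⁻¹)) * s⁻¹ = x * s * x⁻¹ * s⁻¹ by group] at f5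
    exact c.mem_ker.2 f5
  have h6 : ∀ x a : ↥(P : Subgroup A), a ∈ N₀.subgroupOf (P : Subgroup A) → ⁅x, a⁆ ∈ c.ker := fun x a ha => by
    let Z := (Subgroup.center (↥(P : Subgroup A) ⧸ c.ker)).comap (QuotientGroup.mk' c.ker)
    have hZ : ∀ b, b ∈ Z ↔ ∀ y, ⁅y, b⁆ ∈ c.ker := fun b => by
      rw [Subgroup.mem_comap, Subgroup.mem_center_iff]
      refine ⟨fun h y => ?_, fun h y => ?_⟩
      · rw [← QuotientGroup.eq_one_iff, ← QuotientGroup.mk'_apply, map_commutatorElement,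
          commutatorElement_eq_one_iff_mul_comm]
        exact h _
      · obtain ⟨y, rfl⟩ := QuotientGroup.mk'_surjective _ y
        rw [← commutatorElement_eq_one_iff_mul_comm, ← map_commutatorElement]
        exact (QuotientGroup.eq_one_iff _).2 (h y)
    obtain ⟨i, hi⟩ := h3 a a.2 (L.inf a a.2 ha)
    have h7 := L.mem_Tb (pow_mem hs1 i) (L.inf a a.2 ha) (by rw [L.w_pow hs1, hi])
    refine (hZ a).1 ?_ x
    rw [show a = ⟨s, hs⟩ ^ i * ((⟨s, hs⟩ ^ i)⁻¹ * a) by group]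
    exact mul_mem (pow_mem ((hZ _).2 h5) i) ((hZ _).2 fun y => c.comm_mem (h4 y y.2) h7)
  obtain ⟨x, hx⟩ := exists_not_mem (V := N₀.subgroupOf (P : Subgroup A)) (by omega)
  have h7 := index_le_comm (comm_le_of_gen (gen_of_index_prime Nat.prime_three hP hx) (R := c.ker)
    (fun a _ b hb => h6 a b hb) fun a ha => h6 x a ha)
  obtain ⟨t, ht, htP, n⟩ : ∃ t ∈ L.Tb, t ∈ (P : Subgroup A) ∧ θ t ≠ 1 := by
    by_contra hn
    push Not at hn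
    exact n (c.eq_one hn t₀ ht₀)
  have h9 := three_mul_le P.2 (K := c.ker) (K' := L.Tb.subgroupOf P) (fun x hx => (c.mem_ker.1 hx).1) (x := ⟨t, htP⟩) ht
    fun h => n (c.mem_ker.1 h).2
  have h10 := three_mul_le P.2 (K := L.Tb.subgroupOf P) (K' := N₀.subgroupOf P) (fun x hx => L.le (L.Tb_le hx))
    (x := ⟨s, hs⟩) (L.le hs1) fun h => h1 ((L.w_ker s hs1).2 h)
  show 27 ≤ (commutator _).index
  omega

end Fm

theorem index_cases (N₀ : Subgroup A) (P : Sylow 3 A) : (P : Subgroup A) ≤ N₀ ∨ (N₀.subgroupOf (P : Subgroup A)).index = 3 ∨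
    9 ≤ (N₀.subgroupOf (P : Subgroup A)).index := by
  have : Fact (Nat.Prime 3) := ⟨Nat.prime_three⟩
  obtain ⟨j, hj⟩ := P.2.index (N₀.subgroupOf (P : Subgroup A))
  rcases j with _ | _ | j
  · exact .inl (Subgroup.subgroupOf_eq_top.1 (Subgroup.index_eq_one.1 hj))
  · exact .inr (.inl hj)
  · exact .inr (.inr (hj ▸ Nat.pow_le_pow_right (show 0 < 3 by decide) (show 2 ≤ j + 1 + 1 by omega)))

end Cfsg.Agent.KZ.ClD
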