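import Cfsg.Agent.KZ.ClD.Sc
import Cfsg.Agent.KZ.ClD.Nab
import Cfsg.Agent.KZ.Lie.LocA
import Cfsg.Agent.KZ.Tool.Res2

/-!
# KZ: scalar Sylow torus, families of members of `S` and the abelianization (helper12)

`exists_fam` : a family of orthogonal `Rc` which is permuted by the admissible automorphisms descends to `S`;
`ten_le_of_fam` : four fixed members and three triples; `nab27` : `27 ≤ nab P` from `Loc2` and facts on `W`; `levi_ok`.
-/

set_option autoImplicit false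
set_option linter.unusedSectionVars false

namespace Cfsg.Agent.KZ.ClD

open Cfsg Cfsg.Agent.DL Cfsg.Agent.DL.PP Cfsg.Agent.DL.Uni Cfsg.Agent.KZ.Lie Cfsg.Agent.Characters.Core Matrix
  Cfsg.Agent.KZ.Red Cfsg.Agent.KZ.Res

/-! ### four fixed members and three triples -/

section Count

variable {M : Ideal AlgInt}

/-- the relation "same orbit" -/
def Sim : Fin 4 ⊕ Fin 3 × Fin 3 → Fin 4 ⊕ Fin 3 × Fin 3 → Prop
  | .inl i, .inl j => i = j
  | .inr i, .inr j => i.1 = j.1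
  | _, _ => False

/-- four fixed members and three triples -/
structure Fam13 (M : Ideal AlgInt) (S : Type) [Group S] where
  ψ : Fin 4 ⊕ Fin 3 × Fin 3 → IrrCharacter S
  inj : Function.Injective ψ
  mem : ∀ j, Mem M (ψ j)
  aut : ∀ (σ : MulAut S) j, ∃ j', Sim j j' ∧ ∀ x, (ψ j).1 (σ x) = (ψ j').1 x

namespace Fam13

variable {S : Type} [Group S] [Finite S] (E : Fam13 M S)

theorem fixes (σ : MulAut S) (i : Fin 4) : Fixes σ (E.ψ (.inl i)) := by
  obtain ⟨j | j, h1, h2⟩ := E.aut σ (.inl i)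
  · obtain rfl : i = j := h1
    exact h2
  · exact h1.elim

include E in
theorem one : One M S := by
  by_cases h : E.ψ (.inl 0) = Tool.triv S
  · exact ⟨E.ψ (.inl 1), E.mem _, Tool.nontriv_iff.2 fun e => absurd (E.inj (h.trans e.symm)) (by decide),
      fun σ => E.fixes σ 1⟩
  · exact ⟨_, E.mem _, Tool.nontriv_iff.2 h, fun σ => E.fixes σ 0⟩

include E in
theorem p4 : P4 M S :=
  p4_of_fam (fun i : Fin 4 => E.ψ (.inl i)) (by simp) (fun _ => E.mem _) (E.inj.comp Sum.inl_injective)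
    fun σ _ _ i => E.fixes σ i

theorem sim {σ : MulAut S} {j j' : Fin 4 ⊕ Fin 3 × Fin 3} (h : ∀ x, (E.ψ j).1 (σ x) = (E.ψ j').1 x) : Sim j j' := by
  obtain ⟨j₁, h1, h2⟩ := E.aut σ j
  rwa [← E.inj (Subtype.ext (funext fun x => (h2 x).symm.trans (h x)))]

theorem exists_perm (σ : MulAut S) (i : Fin 3) : ∃ a : Fin 3 → Fin 3, Function.Injective a ∧
    ∀ t x, (E.ψ (.inr (i, t))).1 (σ x) = (E.ψ (.inr (i, a t))).1 x := by
  have h : ∀ t, ∃ t', ∀ x, (E.ψ (.inr (i, t))).1 (σ x) = (E.ψ (.inr (i, t'))).1 x := fun t => by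
    obtain ⟨j | ⟨j, t'⟩, h1, h2⟩ := E.aut σ (.inr (i, t))
    · exact h1.elim
    · obtain rfl : i = j := h1
      exact ⟨t', h2⟩
  choose a h using h
  refine ⟨a, fun t t' e => ?_, h⟩
  have := E.inj (a₁ := .inr (i, t)) (a₂ := .inr (i, t')) (Subtype.ext (funext fun x => by
    obtain ⟨x, rfl⟩ := σ.surjective x
    rw [h, h, e]))
  simpa using this

end Fam13

theorem cyc3 : ∀ a b : Fin 3 → Fin 3, Function.Injective a → Function.Injective b → a 0 = 1 → b 0 = 2 →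
    a (a (a 0)) = 0 ∨ b (b (b 0)) = 0 ∨ (b (a 0) ≠ 0 ∧ b (a (b (a (b (a 0))))) = 0) := by
  decide +kernel

theorem ten_le_of_fam {A : Type} [Group A] [Finite A] {N : Subgroup A} [N.Normal] (hM : IsPModular 3 M)
    (h3 : ¬ 3 ∣ N.index) (E : Fam13 M ↥N) : 10 ≤ k0 M A := by
  have key : ∀ (i : Fin 3) (g : A) (a : Fin 3 → Fin 3),
      (∀ t x, (E.ψ (.inr (i, t))).1 (MulAut.conjNormal g x) = (E.ψ (.inr (i, a t))).1 x) → a (a (a 0)) = 0 → a 0 = 0 :=
    fun i g a h e => by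
    have h1 : Fixes (MulAut.conjNormal g : MulAut ↥N) (E.ψ (.inr (i, 0))) :=
      fixes_of_cube h3 (s := ⟨g ^ N.index, N.pow_index_mem g⟩) (by rw [← map_pow, ← conjNormal_coe]) fun x => by
        rw [pow_three, MulAut.mul_apply, MulAut.mul_apply, h, h, h, e]
    have := E.inj (a₁ := .inr (i, a 0)) (a₂ := .inr (i, 0)) (Subtype.ext (funext fun x => (h 0 x).symm.trans (h1 x)))
    simpa using this
  have h1 : ∀ i : Fin 3, ∃ t, ¬ GConj N (E.ψ (.inr (i, 0))) (E.ψ (.inr (i, t))) := fun i => by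
    by_contra hn
    push Not at hn
    obtain ⟨g, hg⟩ := hn 1
    obtain ⟨g', hg'⟩ := hn 2
    obtain ⟨a, ha, h1⟩ := E.exists_perm (MulAut.conjNormal g) i
    obtain ⟨b, hb, h2⟩ := E.exists_perm (MulAut.conjNormal g') i
    have e1 : a 0 = 1 := by
      simpa using E.inj (a₁ := .inr (i, a 0)) (a₂ := .inr (i, 1)) (Subtype.ext (funext fun x => (h1 0 x).symm.trans (hg x)))
    have e2 : b 0 = 2 := by
      simpa using E.inj (a₁ := .inr (i, b 0)) (a₂ := .inr (i, 2)) (Subtype.ext (funext fun x => (h2 0 x).symm.trans (hg' x)))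
    rcases cyc3 a b ha hb e1 e2 with h | h | ⟨h, h'⟩
    · exact absurd ((key i g a h1 h).symm.trans e1) (by decide)
    · exact absurd ((key i g' b h2 h).symm.trans e2) (by decide)
    · exact h (key i (g * g') (fun t => b (a t)) (fun t x => by rw [map_mul, MulAut.mul_apply, h1, h2]) h')
  choose t h1 using h1
  let ι : Fin 4 ⊕ Fin 3 × Bool → Fin 4 ⊕ Fin 3 × Fin 3 := Sum.map id fun j => (j.1, if j.2 then t j.1 else 0)
  have := orb' hM h3 (fun j => E.ψ (ι j)) (fun _ => E.mem _) fun i j h => by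
    obtain ⟨g, hg⟩ := id h
    have h2 := E.sim hg
    rcases i with i | ⟨i, b⟩ <;> rcases j with j | ⟨j, b'⟩
    · exact congrArg _ h2
    · exact h2.elim
    · exact h2.elim
    · obtain rfl : i = j := h2
      cases b <;> cases b'
      · rfl
      · exact absurd h (h1 i)
      · exact absurd (gconj_symm h) (h1 i)
      · rfl
  simpa using this

end Count

variable {p : ℕ} [Fact p.Prime] {k : Type} [Field k] [CharP k p] {Y : Type} [Group Y] {N : Type} [Fintype N]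
  [DecidableEq N] {ρ : Y →* GL N k} {F : MulAut Y} {G : Subgroup Y} [IsAlgClosed k] {D : Datum p ρ F G}
  {w₀ : D.W} {c c' : Lbl D} {f : Fr D} [Fintype ↥(GF F G)] {Adm : Matrix D.R D.R ℤ → Prop} {S : Type} [Group S]
  {s : Sit D Adm S} {M : Ideal AlgInt}

theorem levi_ok (h : Sc D w₀) {ξ : ℂˣ} (hξ : ξ ^ 3 = 1) {lam x : D.R → ℤ} (hx : ∀ u ∈ Wl D lam, x ᵥ* D.Wm u = x) :
    LeviOK D lam w₀ (coch x ξ) where
  stab a ha h0 := by
    obtain ⟨q, h1, h2⟩ := h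
    have h3 := congrArg (· ⬝ᵥ lam) (wt_gw w₀ ha)
    simp only [h2, vecMul_smul, vecMul_one, smul_dotProduct, h0, smul_eq_mul, mul_zero] at h3
    exact (mul_eq_zero.1 h3).resolve_left (by rintro rfl; omega)
  fx := h.fx0 (by rw [← map_pow, hξ, map_one])
  cen := ⟨ξ, x, fun a ha h0 => by
    have h1 := hx (D.rf a) (by
      show D.Wm (D.rf a) *ᵥ lam = lam
      rw [D.Wm_rf ha, sub_mulVec, one_mulVec, vecMulVec_mulVec, h0]
      simp)
    rw [D.Wm_rf ha, vecMul_sub, vecMul_one, vecMul_vecMulVec, sub_eq_self] at h1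
    have h2 := sgZ_rf D ha
    by_contra hn
    rw [show sgZ D (D.rf a) = (D.Wm (D.rf a)).det from rfl, D.Wm_rf ha, (smul_eq_zero.1 h1).resolve_left hn] at h2
    simp at h2, rfl⟩

theorem eq_of_smul {H : Type} [Group H] [Fintype H] {χ χ' : H → ℂ} (h : IsIrrCharacter H χ) (h' : IsIrrCharacter H χ')
    {a : ℂ} (ha : a ≠ 0) (e : χ = a • χ') : χ = χ' := by
  by_contra hn
  have := classInner_irr_ne h h' hn
  rw [e, classInner_smul_left, classInner_irr_self h', mul_one] at this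
  exact ha this

theorem exists_fam (hcop : s.Cop) (hA : Api f) (hF : Full D w₀) (hM : IsPModular 3 M) {J : Type}
    (R : J → ↥(GF F G) → ℂ) (r : J → J → Prop)
    (hm : ∀ j, ∃ χ : IrrCharacter ↥(GF F G), Mem M χ ∧ ∃ ε : ℤˣ, χ.1 = ((ε : ℤ) : ℂ) • R j)
    (ho : ∀ j j', j ≠ j' → classInner (R j) (R j') = 0)
    (ht : ∀ α A (h : Au D α A), Adm A → ∀ j, ∃ j', r j j' ∧ ∀ g, R j (h.aut g) = R j' g) :
    ∃ ψ : J → IrrCharacter S, Function.Injective ψ ∧ (∀ j, Mem M (ψ j)) ∧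
      ∀ (σ : MulAut S) j, ∃ j', r j j' ∧ ∀ x, (ψ j).1 (σ x) = (ψ j').1 x := by
  choose χ h1 ε h2 using hm
  choose ψ h3 h4 using fun j => hcop.down hA hF hM (h1 j)
  have hε : ∀ j, ((ε j : ℤ) : ℂ) * ((ε j : ℤ) : ℂ) = 1 := fun j => by
    rcases Int.units_eq_one_or (ε j) with e | e <;> simp [e]
  refine ⟨ψ, fun j j' e => ?_, h3, fun σ j => ?_⟩
  · by_contra hn
    have h5 : χ j = χ j' := (hcop.up hA hF hM (h3 j)).unique ⟨h1 j, h4 j⟩ ⟨h1 j', e ▸ h4 j'⟩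
    have h6 := classInner_irr_self (χ j).2
    nth_rewrite 2 [h5] at h6
    rw [h2, h2, classInner_smul_left, classInner_smul_right, ho j j' hn] at h6
    simp at h6
  · obtain ⟨α, A, h, h5, h6, -⟩ := s.exists_aut σ
    obtain ⟨j', h7, h8⟩ := ht α A h h5 j
    refine ⟨j', h7, congrFun (Sit.Dn.unique ?_ (h4 j'))⟩
    rw [← eq_of_smul (isIrr_comp h.aut.toMonoidHom h.aut.surjective (χ j).2) (χ j').2
      (a := ((ε j : ℤ) : ℂ) * ((ε j' : ℤ) : ℂ)) (fun e => by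
        have := congrArg (· * (((ε j' : ℤ) : ℂ) * ((ε j : ℤ) : ℂ))) e
        simp only [zero_mul] at this
        rw [mul_assoc, ← mul_assoc ((ε j' : ℤ) : ℂ), hε, one_mul, hε] at this
        exact one_ne_zero this) (funext fun g => by
        show (χ j).1 (h.aut g) = _
        rw [h2, h2, Pi.smul_apply, Pi.smul_apply, Pi.smul_apply, h8, smul_smul, mul_assoc, hε, mul_one])]
    exact h6 _ _ (h4 j)

/-! ### the abelianization -/

variable (D Adm) in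
/-- the facts on the Weyl group -/
structure WF : Prop where
  three : 3 ∣ Nat.card D.W
  nine : ¬ 9 ∣ Nat.card D.W
  det : ∀ A, Adm A → ¬ 3 ∣ A.det
  few : ∃ B : Fin 8 → Matrix D.R D.R ℤ, ∀ A, Adm A → ∃ (i : Fin 8) (n : ℤ), A = n • B i
  two : ∀ σ : D.W, σ ^ 3 = 1 → ∃ c c' : Lbl D, c ^ 3 = 1 ∧ c' ^ 3 = 1 ∧ σ ∈ Wc D c ∧ σ ∈ Wc D c' ∧ c ≠ 1 ∧ ∀ i : ℕ, c' ≠ c ^ i
  sym : ∀ σ : D.W, σ ≠ 1 → σ ^ 3 = 1 → ∃ c : Lbl D, c ^ 3 = 1 ∧ c ≠ 1 ∧ σ ∈ Wc D c ∧ (∃ r ∈ Wc D c, r * σ * r⁻¹ = σ⁻¹) ∧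
    (∀ u ∈ Wc D c, u * σ = σ * u → ∃ i : ℕ, u = σ ^ i) ∧
    ∀ v A c', Adm A → Tr D (D.Wm v * A) c' c → σ ∈ Wc D c' → c' = c ∨ c' = c⁻¹

section Nab

variable {A : Type} [Group A] [Finite A] {N₀ : Subgroup A} [N₀.Normal] {P : Sylow 3 A} (L : Loc2 f s w₀ A N₀ P)

open Classical in
/-- the frame -/
noncomputable def fm (h : Sc D w₀) (hW : WF D Adm) : Fm N₀ P D.W where
  N1 := L.N1
  Tb := L.Tb
  le := L.N1_eq ▸ inf_le_right
  inf x hx hx' := L.N1_eq ▸ ⟨L.P_le hx, hx'⟩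
  norm x hx z hz := by
    rw [L.N1_eq] at hz ⊢
    exact ⟨L.Ah.mul_mem (L.Ah.mul_mem (L.P_le hx) hz.1) (L.Ah.inv_mem (L.P_le hx)),
      Subgroup.Normal.conj_mem inferInstance z hz.2 x⟩
  Tb_le := L.Tb_le
  Tb_norm x hx := L.Tb_norm x (L.P_le hx)
  comm := L.Tb_comm
  w x := if hx : x ∈ L.N1 then L.ω ⟨x, hx⟩ else 1
  w_mul a ha b hb := by rw [dif_pos ha, dif_pos hb, dif_pos (mul_mem ha hb), ← map_mul]; rfl
  w_surj v := by
    obtain ⟨a, ha⟩ : v ∈ L.ω.range := by rw [L.ω_range, h.cw]; trivial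
    exact ⟨a, a.2, by rw [dif_pos a.2]; exact ha⟩
  w_ker a ha := by rw [dif_pos ha]; exact L.ω_ker _
  three := hW.three
  nine := hW.nine

open Classical in
/-- the characters -/
noncomputable def tb (c : Lbl D) (x : A) : ℂˣ := if hx : x ∈ L.Tb then L.Θ c ⟨x, hx⟩ else 1

theorem tb_eq (c : Lbl D) {x : A} (hx : x ∈ L.Tb) : tb L c x = L.Θ c ⟨x, hx⟩ := dif_pos hx

variable (h : Sc D w₀) (hW : WF D Adm)

theorem fm_w {x : A} (hx : x ∈ L.N1) : (fm L h hW).w x = L.ω ⟨x, hx⟩ := dif_pos hx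

variable (hA : Api f) (hcop : s.Cop)
include h hA hcop

theorem zw3 (hc : c ^ 3 = 1) : s.Zw f w₀ c := (s.z1_of_is3 hA hcop.ker ⟨1, by rwa [pow_one]⟩).zw w₀

theorem tb_mul (hc : c ^ 3 = 1) (hc' : c' ^ 3 = 1) {x : A} (hx : x ∈ L.Tb) : tb L (c * c') x = tb L c x * tb L c' x := by
  rw [tb_eq L _ hx, tb_eq L _ hx, tb_eq L _ hx]
  exact L.Θ_mul' c c' (h.fx0 hc) (zw3 h hA hcop hc) (h.fx0 hc') (zw3 h hA hcop hc') _

theorem tb_pow (hc : c ^ 3 = 1) {x : A} (hx : x ∈ L.Tb) (i : ℕ) : tb L (c ^ i) x = tb L c x ^ i := by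
  induction i with
  | zero =>
    rw [pow_zero, pow_zero, tb_eq L _ hx]
    exact (L.Θ_one 1 (h.fx0 (one_pow 3)) (zw3 h hA hcop (one_pow 3))).2 s.tw_one _
  | succ i ih => rw [pow_succ, pow_succ, tb_mul L h hA hcop (by rw [← pow_mul, mul_comm, pow_mul, hc, one_pow]) hc hx, ih]

theorem tb_ch (hc : c ^ 3 = 1) : (fm L h hW).Ch (tb L c) where
  mul a ha b hb := by
    rw [tb_eq L c ha, tb_eq L c hb, tb_eq L c (mul_mem ha hb)]
    exact L.Θ_mul c (h.fx0 hc) (zw3 h hA hcop hc) ⟨a, ha⟩ ⟨b, hb⟩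
  cube a ha := by rw [← tb_pow L h hA hcop hc ha, hc, ← pow_zero c, tb_pow L h hA hcop hc ha, pow_zero]

theorem tb_inj (hc : c ^ 3 = 1) (hc' : c' ^ 3 = 1) (e : ∀ x ∈ L.Tb, tb L c x = tb L c' x) : c = c' := by
  have h1 : (c' ^ 2) ^ 3 = 1 := by rw [← pow_mul, mul_comm, pow_mul, hc', one_pow]
  have h2 : (c * c' ^ 2) ^ 3 = 1 := by rw [mul_pow, hc, h1, one_mul]
  have h3 := (((L.Θ_one _ (h.fx0 h2) (zw3 h hA hcop h2)).1 fun a => by
    rw [← tb_eq L _ a.2, tb_mul L h hA hcop hc h1 a.2, e _ a.2, ← tb_mul L h hA hcop hc' h1 a.2, ← pow_succ', hc',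
      ← pow_zero c, tb_pow L h hA hcop hc a.2, pow_zero]).props hA).2.2.1
  have h4 := pow_gcd_eq_one.2 ⟨h2, h3⟩
  rw [(Nat.Prime.coprime_iff_not_dvd Nat.prime_three).2 hcop.idx, pow_one] at h4
  rw [← mul_one c, ← hc', pow_succ, ← mul_assoc, h4, one_mul]

theorem tb_tr (hc : c' ^ 3 = 1) {x : A} (hx : x ∈ L.Ah) (ht : Tr D (L.B x) c c') {t : A} (h1 : t ∈ L.Tb) :
    tb L c' (x * t * x⁻¹) = tb L c t := by
  rw [tb_eq L _ h1, tb_eq L _ (L.Tb_norm x hx t h1)]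
  exact (L.B_Θ x hx c c' ht (h.fx0 hc) (zw3 h hA hcop hc)).2.2 _ _ rfl

theorem fix_iff (hc : c ^ 3 = 1) {z : A} (hz : z ∈ L.N1) : (fm L h hW).w z ∈ Wc D c ↔ (fm L h hW).Fix z (tb L c) := by
  have h1 : z ∈ L.Ah := (L.N1_eq ▸ hz : z ∈ L.Ah ⊓ N₀).1
  have h2 : L.B z = D.Wm (L.ω ⟨z, hz⟩) := L.B_N1 ⟨z, hz⟩
  rw [fm_w L h hW hz]
  refine ⟨fun h3 t ht => ⟨L.Tb_norm z h1 t ht, tb_tr L h hA hcop hc h1 (h2 ▸ h3) ht⟩, fun h3 => ?_⟩
  have h4 := tr_mon (L.B z) c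
  rw [tb_inj L h hA hcop (cube_of_tr h4 hc) hc fun t ht => (tb_tr L h hA hcop hc h1 h4 ht).symm.trans (h3 t ht).2, h2] at h4
  exact h4

theorem tb_ne (hc : c ^ 3 = 1) (hc' : c' ^ 3 = 1) (hn : c ≠ c') : ∃ t ∈ L.Tb, tb L c t ≠ tb L c' t := by
  by_contra h1
  push Not at h1
  exact hn (tb_inj L h hA hcop hc hc' h1)

include L hW in
/-- **the abelianization** -/
theorem nab27 : 27 ≤ nab P := by
  have hne : ∀ {c : Lbl D}, c ^ 3 = 1 → c ≠ 1 → ∃ t ∈ L.Tb, tb L c t ≠ 1 := fun {c} hc hn => by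
    obtain ⟨t, ht, h1⟩ := tb_ne L h hA hcop hc (one_pow 3) hn
    exact ⟨t, ht, by rwa [← pow_zero c, tb_pow L h hA hcop hc ht, pow_zero] at h1⟩
  have hdet : ∀ x ∈ L.Ah, ¬ 3 ∣ (L.B x).det := fun x hx => by
    obtain ⟨v, A', h1, h2⟩ := L.B_adm x hx
    rw [h2, det_mul]
    exact fun h3 => (Int.prime_three.dvd_or_dvd h3).elim (det_Wm v) (hW.det A' h1)
  have hω : ∀ x ∈ (P : Subgroup A), ∀ z ∈ L.N1,
      D.Wm ((fm L h hW).w (x * z * x⁻¹)) * L.B x = L.B x * D.Wm ((fm L h hW).w z) := fun x hx z hz => by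
    rw [fm_w L h hW hz, fm_w L h hW ((fm L h hW).norm x hx z hz)]
    exact L.B_ω x (L.P_le hx) _ _ rfl
  rcases index_cases N₀ P with h1 | h1 | h1
  · refine (fm L h hW).nab_in h1 fun z hz h3 => ?_
    obtain ⟨c, c', hc, hc', h4, h5, h6, h7⟩ := hW.two _ h3
    refine ⟨tb L c, tb L c', tb_ch L h hW hA hcop hc, tb_ch L h hW hA hcop hc', (fix_iff L h hW hA hcop hc hz).1 h4,
      (fix_iff L h hW hA hcop hc' hz).1 h5, hne hc h6, fun i => ?_⟩
    obtain ⟨t, ht, h8⟩ := tb_ne L h hA hcop hc' (by rw [← pow_mul, mul_comm, pow_mul, hc, one_pow]) (h7 i)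
    exact ⟨t, ht, by rwa [tb_pow L h hA hcop hc ht] at h8⟩
  · refine (fm L h hW).nab_three h1 fun z hz h2 h3 => ?_
    obtain ⟨c, hc, h4, h5, h6, h7, h8⟩ := hW.sym _ h2 h3
    refine ⟨tb L c, Wc D c, tb_ch L h hW hA hcop hc, hne hc h4, fun y hy => fix_iff L h hW hA hcop hc hy, h5, h6, h7,
      fun x hx e => ?_⟩
    obtain ⟨v, A', h9, h10⟩ := L.B_adm x (L.P_le hx)
    have h11 := tr_mon (L.B x) c
    have h12 := hω x hx z hz
    rw [e] at h12
    rcases h8 v A' _ h9 (h10 ▸ h11) ((mem_Wc_tr (hdet x (L.P_le hx)) h11 hc h12).2 h5) with h13 | h13 <;> rw [h13] at h11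
    · exact .inl fun t ht => ⟨L.Tb_norm x (L.P_le hx) t ht, tb_tr L h hA hcop hc (L.P_le hx) h11 ht⟩
    · refine .inr fun t ht => (tb_tr L h hA hcop hc (L.P_le hx) h11 ht).trans (eq_inv_of_mul_eq_one_left ?_)
      rw [← tb_mul L h hA hcop (by rw [inv_pow, hc, inv_one]) hc ht, inv_mul_cancel, ← pow_zero c,
        tb_pow L h hA hcop hc ht, pow_zero]
  · classical
    obtain ⟨B, hB⟩ := hW.few
    refine (fm L h hW).nab_big h1 (fun σ h2 h3 => ?_) (ι := Fin 8) (by simp)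
      (fun i w => if e : ∃ w', D.Wm w' * B i = B i * D.Wm w then e.choose else 1) fun x hx => ?_
    · obtain ⟨c, -, -, -, ⟨r, -, h4⟩, -⟩ := hW.sym _ h2 h3
      refine ⟨r, fun e => h2 ?_⟩
      rw [e, mul_inv_cancel_right, eq_inv_iff_mul_eq_one] at h4
      rwa [pow_succ, pow_two, h4, one_mul] at h3
    · obtain ⟨v, A', h2, h3⟩ := L.B_adm x (L.P_le hx)
      obtain ⟨i, n, rfl⟩ := hB A' h2
      have h4 : (n • B i).det ≠ 0 := fun e => hW.det _ h2 (e ▸ dvd_zero 3)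
      have h5 : n ≠ 0 := by
        rintro rfl
        have : Nonempty D.R := by
          by_contra hn
          have : IsEmpty D.R := not_nonempty_iff.1 hn
          have : Subsingleton D.W := ⟨fun a b => D.Wm_injective (Subsingleton.elim _ _)⟩
          have h6 := hW.three
          rw [Nat.card_of_subsingleton (1 : D.W)] at h6
          omega
        rw [zero_smul, det_zero] at h4
        exact h4 rfl
      refine ⟨i, v, fun z hz => ?_⟩
      have h6 := hω x hx z hz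
      rw [h3] at h6
      have h7 : D.Wm (v⁻¹ * (fm L h hW).w (x * z * x⁻¹) * v) * (n • B i) = (n • B i) * D.Wm ((fm L h hW).w z) := by
        rw [D.Wm_mul, D.Wm_mul, mul_assoc, mul_assoc, h6, ← mul_assoc, ← mul_assoc, Wm_inv_mul, one_mul]
      have e : ∃ w', D.Wm w' * B i = B i * D.Wm ((fm L h hW).w z) := ⟨_, smul_right_injective _ h5 (by
        simpa only [mul_smul_comm, smul_mul_assoc] using h7)⟩
      rw [dif_pos e]
      have h8 : D.Wm e.choose * (n • B i) = (n • B i) * D.Wm ((fm L h hW).w z) := by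
        rw [mul_smul_comm, e.choose_spec, smul_mul_assoc]
      rw [D.Wm_injective ((reg_of_det h4).2 (h8.trans h7.symm))]
      group

end Nab

end Cfsg.Agent.KZ.ClD
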