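import Cfsg.Agent.KZ.ClB.Row
import Cfsg.Agent.KZ.McX.SPm
import Cfsg.Agent.KZ.Cl.Re
import Cfsg.Agent.KZ.Dat.OmD

/-!
# KZ, type `D` : the rows from the data (helper12)

`rowAt_D` (even signed permutations), `rowAt_datP`, `rowAt_datM`.
-/

set_option autoImplicit false
set_option linter.unusedSectionVars false

namespace Cfsg.Agent.KZ.ClD

open Cfsg Cfsg.Agent.DL Cfsg.Agent.DL.PP Cfsg.Agent.KZ.Lie Cfsg.Agent.KZ.Dat Cfsg.Agent.KZ.Cl Cfsg.Agent.KZ.Ch3X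
  Cfsg.Agent.KZ.ClB Matrix Equiv

/-- a sign at the last coordinate -/
def lsg (n : ℕ) (η : ℤˣ) : Fin (n + 1) → ℤˣ := Pi.mulSingle (Fin.last n) η

theorem lsg_one (n : ℕ) : lsg n 1 = 1 := Pi.mulSingle_one _

theorem lsg_mul (n : ℕ) (η θ : ℤˣ) : lsg n (η * θ) = lsg n η * lsg n θ := Pi.mulSingle_mul _ _ _

theorem prod_lsg (n : ℕ) (η : ℤˣ) : ∏ j, lsg n η j = η := Fintype.prod_pi_mulSingle' _ _

theorem dd_top (n : ℕ) : dd (n + 1) (n + 1) = lsg n 1 := (funext fun i => if_pos i.2).trans (lsg_one n).symm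

theorem dd_last (n : ℕ) : dd (n + 1) n = lsg n (-1) := funext fun i => by
  rw [dd, lsg, Pi.mulSingle_apply]
  by_cases h : i = Fin.last n
  · rw [if_pos h, if_neg (by simp [h])]
  · rw [if_neg h, if_pos (Fin.val_lt_last h)]

theorem smul_spm {ι : Type} [Fintype ι] [DecidableEq ι] (ε : ℤˣ) (π : Perm ι) (s : ι → ℤˣ) :
    spm π (fun j => ε * s j) = (ε : ℤ) • spm π s := by
  ext i j
  simp [spm_apply]

theorem spm_sq {ι : Type} [Fintype ι] [DecidableEq ι] (s : ι → ℤˣ) : spm 1 s * spm 1 s = 1 := by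
  rw [spm_mul, one_mul, ← spm_one]
  exact congrArg _ (funext fun j => Int.units_mul_self _)

theorem exists_sign {q : ℤ} (h : ¬ 3 ∣ q) : ∃ ε : ℤˣ, 3 ∣ ε * q - 1 := by
  by_cases h1 : 3 ∣ q - 1
  · exact ⟨1, by simpa using h1⟩
  · exact ⟨-1, by simp; omega⟩

theorem sign_eq {c s : ℤ} (hc : ¬ 3 ∣ c) {a b : ℤˣ} (h1 : 3 ∣ c * a - s) (h2 : 3 ∣ c * b - s) : a = b := by
  rcases Int.units_eq_one_or a with rfl | rfl <;> rcases Int.units_eq_one_or b with rfl | rfl <;> simp at h1 h2 ⊢ <;> omega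

variable {p : ℕ} [Fact p.Prime] {k : Type} [Field k] [CharP k p] {Y : Type} [Group Y] {N : Type} [Fintype N]
  [DecidableEq N] {ρ : Y →* GL N k} {F : MulAut Y} {G : Subgroup Y} [IsAlgClosed k] {D : Datum p ρ F G}
  {Adm : Matrix D.R D.R ℤ → Prop} {S : Type} [Group S] {n : ℕ} (P : SP D (n + 1) True)

/-- the Sylow torus -/
theorem exists_tor {q : ℤ} {η ε : ℤˣ} (hM : P.P * D.Mx = q • spm 1 (lsg n η) * P.P) (h3 : 3 ∣ ε * q - 1) :
    ∃ w₀ r, P.Tor w₀ (ε * q) r ∧ (r = n + 1 ∧ ε ^ (n + 1) = η ∨ r = n ∧ ε ^ (n + 1) = -η) := by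
  obtain ⟨w, h1, h2⟩ := P.exists_w 1 (s := fun j => ε * lsg n (ε ^ (n + 1)) j) fun _ => by
    rw [Finset.prod_mul_distrib, prod_lsg, Finset.prod_const, Finset.card_univ, Fintype.card_fin, Int.units_mul_self]
  have h : P.P * (D.Wm w * D.Mx) = (ε * q) • spm 1 (lsg n (ε ^ (n + 1) * η)) * P.P := by
    rw [← Matrix.mul_assoc, P.eq, h1, h2, Matrix.mul_assoc, hM, ← Matrix.mul_assoc, smul_spm, smul_mul_smul_comm, spm_mul,
      lsg_mul]
    rfl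
  rcases Int.units_eq_one_or (ε ^ (n + 1) * η) with h4 | h4 <;> rw [h4] at h
  · exact ⟨w, _, ⟨dd_top n ▸ h, h3, .inl rfl⟩, .inl ⟨rfl, by rw [eq_inv_of_mul_eq_one_left h4, Int.units_inv_eq_self]⟩⟩
  · exact ⟨w, _, ⟨dd_last n ▸ h, h3, .inr ⟨rfl, trivial⟩⟩, .inr ⟨rfl, by
      rw [eq_mul_inv_of_mul_eq h4, Int.units_inv_eq_self, neg_one_mul]⟩⟩

/-- the graph automorphism is `-1` modulo the Weyl group if the rank is odd -/
theorem sca_odd (hn : Even n) {c : ℤ} (hc : ¬ 3 ∣ c) {A : Matrix D.R D.R ℤ} (h : P.P * A = c • spm 1 (lsg n (-1)) * P.P) :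
    ∃ (v : D.W) (s : ℤ), ¬ 3 ∣ s ∧ D.Wm v * A = s • (1 : Matrix D.R D.R ℤ) := by
  obtain ⟨v, h1, h2⟩ := P.exists_w 1 (s := fun j => -1 * lsg n (-1) j) fun _ => by
    rw [Finset.prod_mul_distrib, prod_lsg, Finset.prod_const, Finset.card_univ, Fintype.card_fin, pow_succ, hn.neg_one_pow]
    rfl
  refine ⟨v, (-1 : ℤˣ) * c, by simpa using hc, P.cancel_left ?_⟩
  rw [← Matrix.mul_assoc, P.eq, h1, h2, Matrix.mul_assoc, h, ← Matrix.mul_assoc, smul_spm, smul_mul_smul_comm, spm_sq,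
    Matrix.mul_smul, Matrix.mul_one, Matrix.smul_mul, Matrix.one_mul]

/-- the graph automorphism moves the labels if the rank is even -/
theorem nev_even (hn : Odd n) {c : ℤ} (hc : ¬ 3 ∣ c) {A : Matrix D.R D.R ℤ} (h : P.P * A = c • spm 1 (lsg n (-1)) * P.P) :
    (∃ s : ℤ, ¬ 3 ∣ s ∧ A * A = s • (1 : Matrix D.R D.R ℤ)) ∧ (∀ w, ∃ w', D.Wm w * A = A * D.Wm w') ∧
      ∀ (v : D.W) (s : ℤ), ¬ ∀ i, (3 : ℤ) ∣
        ((ind (n + 1) (n + 1) ᵥ* P.P) ᵥ* (A * D.Wm v) - s • (ind (n + 1) (n + 1) ᵥ* P.P)) i := by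
  have h0 : ∀ w, P.P * (A * D.Wm w) = c • spm (P.π w) (fun j => lsg n (-1) (P.π w j) * P.s w j) * P.P := fun w => by
    rw [← Matrix.mul_assoc, h, Matrix.mul_assoc, P.eq, ← Matrix.mul_assoc, Matrix.smul_mul, spm_mul, one_mul]
  have h1 : ∀ w, ∏ j, lsg n (-1) (P.π w j) * P.s w j = -1 := fun w => by
    rw [Finset.prod_mul_distrib, Equiv.prod_comp (P.π w) (lsg n (-1)), prod_lsg, P.even trivial, mul_one]
  refine ⟨⟨c * c, fun e => hc ((Int.prime_three.dvd_or_dvd e).elim id id), P.cancel_left ?_⟩, fun w => ?_, fun v s e => ?_⟩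
  · rw [← Matrix.mul_assoc, h, Matrix.mul_assoc, h, ← Matrix.mul_assoc, smul_mul_smul_comm, spm_sq, Matrix.mul_smul,
      Matrix.mul_one, Matrix.smul_mul, Matrix.one_mul]
  · obtain ⟨w', h2, h3⟩ := P.exists_w (P.π w) (s := fun j => lsg n (-1) (P.π w j) * P.s w j * lsg n (-1) j) fun _ => by
      rw [Finset.prod_mul_distrib, h1, prod_lsg]
      rfl
    refine ⟨w', P.cancel_left ?_⟩
    rw [h0, h2, h3, ← Matrix.mul_assoc, P.eq, Matrix.mul_assoc, h, ← Matrix.mul_assoc, Matrix.mul_smul, spm_mul, mul_one]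
    simp only [← mul_assoc, Int.units_mul_self, one_mul, Perm.one_apply]
  · rw [vecMul_vecMul, h0, ← vecMul_vecMul, ← smul_vecMul, ← sub_vecMul] at e
    have h2 : ∀ j, (3 : ℤ) ∣ c * (lsg n (-1) (P.π v j) * P.s v j : ℤˣ) - s := fun j => by
      have := P.dvd_of_vecMul e j
      rwa [Pi.sub_apply, vecMul_smul, Pi.smul_apply, Pi.smul_apply, vecMul_spm, ind, ind, if_pos j.2, if_pos (P.π v j).2,
        one_mul, smul_eq_mul, smul_eq_mul, mul_one] at this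
    have h3 := h1 v
    rw [Finset.prod_congr rfl fun j _ => sign_eq hc (h2 j) (h2 0), Finset.prod_const, Finset.card_univ, Fintype.card_fin,
      Int.units_pow_eq_pow_mod_two, (Nat.even_iff.1 hn.add_one), pow_zero] at h3
    exact absurd h3 (by decide)

include P in
/-- **Type `D`.** -/
theorem rowAt_D (hB : BoxB) (hA : BoxApi) (hn : 1 ≤ n) (hp : p ≠ 3) {e : ℕ} (he : 0 < e) {η : ℤˣ}
    (hM : P.P * D.Mx = (p : ℤ) ^ e • spm 1 (lsg n η) * P.P) (h4 : n = 3 → η = -1) (s : Sit D Adm S)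
    (h1 : ∀ g ∈ GF F G, g ^ 2 ∈ s.H0) (h2 : ∀ z, s.π z = 1 → z ^ 2 = 1)
    (adm : ∀ A, Adm A → ∃ j : ℕ, A = (p : ℤ) ^ j • (1 : Matrix D.R D.R ℤ) ∨
      (η = 1 ∧ P.P * A = (p : ℤ) ^ j • spm 1 (lsg n (-1)) * P.P))
    (ho : OC3 S) (hS : ¬ IsMulCommutative S) : RowAt S := by
  have := Asm.finite_GF D
  have := Fintype.ofFinite ↥(GF F G)
  obtain ⟨f⟩ := nonempty_fr D
  have h0 := not_three_pow Fact.out hp
  obtain ⟨ε, h3⟩ := exists_sign (h0 e)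
  obtain ⟨w₀, r, T, hr⟩ := exists_tor P hM h3
  have h5 : (1 : ℤ) < (p : ℤ) ^ e := one_lt_pow₀ (by exact_mod_cast (Fact.out : p.Prime).one_lt) he.ne'
  obtain ⟨a, h6, h7, h8⟩ := exists_val h3 (by rcases Int.units_eq_one_or ε with rfl | rfl <;> simp <;> omega)
  have h9 : Odd n → ε ^ (n + 1) = 1 := fun h => by
    rw [Int.units_pow_eq_pow_mod_two, Nat.even_iff.1 h.add_one, pow_zero]
  refine hB (T.blike (by omega) h6 h7 h8 (fun h _ => ?_) fun A h => ?_) f (hA f s.qs) (T.mc f hp) hp s (cop_of_sq s h1 h2)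
    (T.admC fun A h => ?_) T.regC ho hS
  · rcases hr with ⟨h10, h11⟩ | ⟨h10, -⟩
    · obtain rfl : n = 3 := by omega
      rw [h9 (by decide), h4 rfl] at h11
      exact absurd h11 (by decide)
    · omega
  · obtain ⟨j, h | ⟨rfl, h⟩⟩ := adm A h
    · exact .inl (adm_of_admQ hp ⟨j, h⟩)
    rcases n.even_or_odd with h10 | h10
    · exact .inl (sca_odd P h10 (h0 j) h)
    obtain rfl : r = n + 1 := hr.elim And.left fun h => absurd ((h9 h10).symm.trans h.2) (by decide)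
    refine .inr ⟨⟨by omega, fun h11 => absurd (h4 (by omega)) (by decide), fun h11 => ?_⟩, nev_even P h10 (h0 j) h⟩
    obtain rfl : n = 4 := by omega
    exact absurd h10 (by decide)
  · obtain ⟨j, rfl | ⟨-, h⟩⟩ := adm A h
    · exact ⟨_, 1, 1, by rw [spm_one, Matrix.mul_smul, Matrix.smul_mul, Matrix.mul_one, Matrix.one_mul]⟩
    · exact ⟨_, _, _, h⟩

end Cfsg.Agent.KZ.ClD

namespace Cfsg.Agent.KZ.ClD

open Cfsg Cfsg.Agent.DL Cfsg.Agent.DL.PP Cfsg.Agent.KZ.Lie Cfsg.Agent.KZ.Dat Cfsg.Agent.KZ.Cl Cfsg.Agent.KZ.Ch3X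
  Cfsg.Agent.KZ.ClB Cfsg.Agent.KZ.Dat.Om Matrix Equiv
open Cfsg.Agent.ODD.C2 (BD)

variable {p : ℕ} [Fact p.Prime] {k : Type} [Field k] [CharP k p] [IsAlgClosed k] {n : ℕ}
  {s : Fin (n + 2) × Bool → Fin (n + 2) × Bool} {γ : (Fin (n + 2) → ℤ) → Fin (n + 2) → ℤ}
  {B : Matrix (Fin (n + 2)) (Fin (n + 2)) ℤ} (hk : ∀ a : k, ∃ j, 0 < j ∧ a ^ p ^ j = a) {e : ℕ} (he : 0 < e)
  {S : Type} [Group S]

theorem one_comm {A A' : Matrix (Fin (n + 2)) (Fin (n + 2)) ℤ} (h : A = A') : 1 * A = A' * 1 := by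
  rw [h, one_mul, mul_one]

theorem smul_BD (c : ℤ) : c • BD n = c • spm 1 (lsg (n + 1) (-1)) := congrArg _ (BD_eq n)

theorem smul_BD_mul (c d : ℤ) : c • BD n * d • BD n = (c * d) • 1 := by rw [smul_mul_smul_comm, BD_mul]

/-- the Weyl group of type `D` -/
noncomputable def spD (sy : (osD n).Sy s γ B) : SP (datD sy hk he) (n + 1 + 1) True where
  P := (1 : Matrix (Fin (n + 2)) (Fin (n + 2)) ℤ)
  P' := (1 : Matrix (Fin (n + 2)) (Fin (n + 2)) ℤ)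
  PP' := one_mul _
  P'P := one_mul (1 : Matrix (Fin (n + 2)) (Fin (n + 2)) ℤ)
  fwd w := let ⟨π, t, h1, h2⟩ := WmD_spm sy hk he w; ⟨π, t, fun _ => h1, one_comm h2⟩
  bwd π _ h := (exists_WmD sy hk he π (h trivial)).imp fun _ => one_comm

theorem rowAt_datP (hB : BoxB) (hA : BoxApi) (hn : n ≠ 2) (hp : p ≠ 3) (s : Sit (datP n hk he) (AdmD p n) S)
    (h1 : ∀ g ∈ GF ((osD n).sy_id.F k p e) ((osD n).G k), g ^ 2 ∈ s.H0) (h2 : ∀ z, s.π z = 1 → z ^ 2 = 1) (ho : OC3 S)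
    (hS : ¬ IsMulCommutative S) : RowAt S :=
  rowAt_D (spD hk he _) hB hA (by omega) hp he (η := 1) (one_comm (by rw [lsg_one, spm_one]; rfl)) (fun h => by omega) s h1 h2
    (fun _ h => h.imp fun j h => h.imp id fun h => ⟨rfl, one_comm (h.trans (smul_BD _))⟩) ho hS

theorem rowAt_datM (hB : BoxB) (hA : BoxApi) (hp : p ≠ 3) (s : Sit (datM n hk he) (AdmD p n) S)
    (h1 : ∀ g ∈ GF ((syD n).F k p e) ((osD n).G k), g ^ 2 ∈ s.H0) (h2 : ∀ z, s.π z = 1 → z ^ 2 = 1) (ho : OC3 S)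
    (hS : ¬ IsMulCommutative S) : RowAt S :=
  rowAt_D (spD hk he _) hB hA (by omega) hp he (η := -1) (one_comm (smul_BD _)) (fun _ => rfl)
    (reAdm (Adm' := AdmQ p) s (admQ_one p) fun A ⟨j, h⟩ => h.imp (⟨j, ·⟩) fun h => ⟨j + e, by
      rw [h, pow_add]
      exact smul_BD_mul _ _⟩) h1 h2
    (fun _ h => h.imp fun _ => .inl) ho hS

end Cfsg.Agent.KZ.ClD
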