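import Cfsg.Agent.KZ.Lie.ApiB

/-!
# KZ: the Sylow torus of scalar type (helper12)

`Sc D w₀` : `w₀ F` acts on the torus by a scalar `q ≡ 1 mod 3`.  `Wc D c` is the stabiliser of the label `c`, and
`Rc f w₀ c φ` is the average of `φ u * RW (u w₀) c` over it: scalar products, the sum `mS`, transport, members.
-/

set_option autoImplicit false
set_option linter.unusedSectionVars false

namespace Cfsg.Agent.KZ.ClD

open Cfsg Cfsg.Agent.DL Cfsg.Agent.DL.PP Cfsg.Agent.DL.Uni Cfsg.Agent.KZ.Lie Cfsg.Agent.Characters.Core Matrix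
open scoped ComplexConjugate

/-! ### two double counts -/

section Count

variable {W : Type} [Group W] [Finite W]

theorem card_eq_sum [Fintype W] (P : W → Prop) [DecidablePred P] : (Nat.card {v // P v} : ℂ) = ∑ v, if P v then 1 else 0 := by
  rw [Nat.card_eq_fintype_card, Fintype.card_subtype, Finset.card_filter]
  push_cast
  rfl

open Classical in
theorem finsum_sub [Fintype W] (H : Subgroup W) (a : W → ℂ) : ∑ᶠ u : H, a u = ∑ u, if u ∈ H then a u else 0 := by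
  rw [finsum_eq_sum_of_fintype, ← Finset.sum_filter]
  exact (Finset.sum_subtype _ (fun x => by simp) a).symm

theorem card_ne (H : Subgroup W) : (Nat.card H : ℂ) ≠ 0 := Nat.cast_ne_zero.2 Nat.card_pos.ne'

theorem finsum_const (H : Subgroup W) (a : ℂ) : ∑ᶠ _ : H, a = Nat.card H * a := by
  have := Fintype.ofFinite H
  rw [finsum_eq_sum_of_fintype, Finset.sum_const, Finset.card_univ, nsmul_eq_mul, Nat.card_eq_fintype_card]

theorem sum_conj (H : Subgroup W) {φ : W → ℂ} (hφ : ∀ v u, φ (v * u * v⁻¹) = φ u) {u' : W} (hu : u' ∈ H) :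
    ∑ᶠ u : H, φ u * (Nat.card {v : W // u' * v = v * u ∧ v ∈ H} : ℂ) = Nat.card H * φ u' := by
  classical
  have := Fintype.ofFinite W
  rw [finsum_sub H fun u => φ u * (Nat.card {v : W // u' * v = v * u ∧ v ∈ H} : ℂ), ← finsum_const,
    finsum_sub H fun _ => φ u']
  simp only [card_eq_sum, Finset.mul_sum]
  have h1 : ∀ u : W, (if u ∈ H then ∑ v, φ u * (if u' * v = v * u ∧ v ∈ H then 1 else 0) else 0) =
      ∑ v, if v ∈ H then (if u = v⁻¹ * u' * v then φ u' else 0) else 0 := fun u => by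
    split_ifs with h
    · refine Finset.sum_congr rfl fun v _ => ?_
      by_cases hv : v ∈ H
      · by_cases e : u = v⁻¹ * u' * v
        · rw [if_pos ⟨by rw [e]; group, hv⟩, if_pos hv, if_pos e, mul_one, e]
          simpa using hφ v⁻¹ u'
        · rw [if_neg fun h' => e (by rw [mul_assoc, h'.1]; group), if_pos hv, if_neg e, mul_zero]
      · rw [if_neg fun h' => hv h'.2, if_neg hv, mul_zero]
    · refine (Finset.sum_eq_zero fun v _ => ?_).symm
      split_ifs with hv e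
      · exact absurd (e ▸ mul_mem (mul_mem (inv_mem hv) hu) hv) h
      · rfl
      · rfl
  simp only [h1]
  rw [Finset.sum_comm]
  refine Finset.sum_congr rfl fun v _ => ?_
  split_ifs
  · simp
  · simp

theorem sum_ind {U H : Subgroup W} (hU : U ≤ H) {r : W → ℂ} (hr : ∀ v ∈ H, ∀ u ∈ H, r (v⁻¹ * u * v) = r u) :
    ∑ᶠ x : H, (Nat.card {v : W // v ∈ H ∧ v⁻¹ * x * v ∈ U} : ℂ) * r x = Nat.card H * ∑ᶠ u : U, r u := by
  classical
  have := Fintype.ofFinite W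
  rw [finsum_sub H fun x => (Nat.card {v : W // v ∈ H ∧ v⁻¹ * x * v ∈ U} : ℂ) * r x, ← finsum_const,
    finsum_sub H fun _ => ∑ᶠ u : U, r u, finsum_sub U r]
  simp only [card_eq_sum, Finset.sum_mul]
  have h1 : ∀ x : W, (if x ∈ H then ∑ v, (if v ∈ H ∧ v⁻¹ * x * v ∈ U then 1 else 0) * r x else 0) =
      ∑ v, if v ∈ H then (if v⁻¹ * x * v ∈ U then r (v⁻¹ * x * v) else 0) else 0 := fun x => by
    split_ifs with h
    · refine Finset.sum_congr rfl fun v _ => ?_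
      by_cases hv : v ∈ H
      · by_cases e : v⁻¹ * x * v ∈ U
        · rw [if_pos ⟨hv, e⟩, if_pos hv, if_pos e, one_mul, hr v hv x h]
        · rw [if_neg fun h' => e h'.2, if_pos hv, if_neg e, zero_mul]
      · rw [if_neg fun h' => hv h'.1, if_neg hv, zero_mul]
    · refine (Finset.sum_eq_zero fun v _ => ?_).symm
      split_ifs with hv e
      · refine absurd ?_ h
        have := mul_mem (mul_mem hv (hU e)) (inv_mem hv)
        rwa [show v * (v⁻¹ * x * v) * v⁻¹ = x by group] at this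
      · rfl
      · rfl
  simp only [h1]
  rw [Finset.sum_comm]
  refine Finset.sum_congr rfl fun v _ => ?_
  split_ifs
  · exact Fintype.sum_equiv (MulAut.conj v⁻¹).toEquiv _ _ fun x => by simp
  · simp

end Count

variable {p : ℕ} [Fact p.Prime] {k : Type} [Field k] [CharP k p] {Y : Type} [Group Y] {N : Type} [Fintype N]
  [DecidableEq N] {ρ : Y →* GL N k} {F : MulAut Y} {G : Subgroup Y} [IsAlgClosed k] {D : Datum p ρ F G}
  {w₀ : D.W} {c c' : Lbl D} {φ φ' : D.W → ℂ}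

variable (D) in
/-- `w₀ F` is a scalar which is `1` modulo `3` -/
def Sc (w₀ : D.W) : Prop := ∃ q : ℤ, 3 ∣ q - 1 ∧ D.Wm w₀ * D.Mx = q • (1 : Matrix D.R D.R ℤ)

variable (D) in
/-- the stabiliser of a label -/
def Wc (c : Lbl D) : Subgroup D.W where
  carrier := {v | Rel D v c c}
  one_mem' := rel_one D c
  mul_mem' ha hb := Rel.trans hb ha
  inv_mem' ha := Rel.symm ha

theorem mem_Wc {v : D.W} : v ∈ Wc D c ↔ Rel D v c c := Iff.rfl

theorem Wm_inv_mul (w : D.W) : D.Wm w⁻¹ * D.Wm w = 1 := by rw [← D.Wm_mul, inv_mul_cancel, D.Wm_one]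

theorem Wm_mul_inv (w : D.W) : D.Wm w * D.Wm w⁻¹ = 1 := by rw [← D.Wm_mul, mul_inv_cancel, D.Wm_one]

theorem Sc.comm (h : Sc D w₀) (v : D.W) : w₀ * D.Fw v = v * w₀ := by
  obtain ⟨q, h1, h2⟩ := h
  have h0 : q ≠ 0 := by
    rintro rfl
    omega
  have h3 : D.Mx * D.Wm w₀ = q • (1 : Matrix D.R D.R ℤ) := by
    rw [← one_mul D.Mx, ← Wm_inv_mul w₀, mul_assoc (D.Wm w₀⁻¹), h2, mul_smul_comm, mul_one, smul_mul_assoc, Wm_inv_mul]
  have h4 : D.Wm (w₀ * D.Fw v) * D.Mx = D.Wm (v * w₀) * D.Mx := by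
    rw [D.Wm_mul, D.Wm_mul, mul_assoc, ← D.Mx_Wm, ← mul_assoc, mul_assoc (D.Wm v), h2, smul_mul_assoc, mul_smul_comm,
      one_mul, mul_one]
  have h5 := congrArg (· * D.Wm w₀) h4
  simp only [mul_assoc, h3, mul_smul_comm, mul_one] at h5
  exact D.Wm_injective (smul_right_injective _ h0 h5)

theorem Sc.tc (h : Sc D w₀) {v u u' : D.W} : Tc D v (u * w₀) (u' * w₀) ↔ u' * v = v * u := by
  rw [Tc, mul_assoc, h.comm, ← mul_assoc, ← mul_assoc, mul_left_inj]

theorem Sc.cw (h : Sc D w₀) : CW D w₀ = ⊤ := eq_top_iff.2 fun v _ => h.comm v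

theorem chr_cube (hc : c ^ 3 = 1) (v : D.R → ℤ) : chr v c ^ 3 = 1 := by rw [← map_pow, hc, map_one]

theorem zpow_of_cube {a : ℂˣ} (ha : a ^ 3 = 1) {q : ℤ} (h : 3 ∣ q - 1) : a ^ q = a := by
  obtain ⟨m, hm⟩ := h
  rw [show q = 3 * m + 1 by omega, _root_.zpow_add, _root_.zpow_mul, zpow_one, show a ^ (3 : ℤ) = 1 from ha, _root_.one_zpow, one_mul]

theorem Sc.fx0 (h : Sc D w₀) (hc : c ^ 3 = 1) : Fx D w₀ c := fun v => by
  obtain ⟨q, h1, h2⟩ := h
  rw [h2, smul_mulVec, one_mulVec, chr_zsmul, zpow_of_cube (chr_cube hc v) h1]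

theorem Sc.fx (h : Sc D w₀) (hc : c ^ 3 = 1) {u : D.W} (hu : u ∈ Wc D c) : Fx D (u * w₀) c := (h.fx0 hc).mul hu

theorem cube_of_tr {A : Matrix D.R D.R ℤ} (h : Tr D A c c') (hc : c' ^ 3 = 1) : c ^ 3 = 1 :=
  eq_of_chr D fun v => by rw [map_pow, ← h, chr_cube hc, map_one]

theorem cube_of_rel {v : D.W} (h : Rel D v c c') (hc : c ^ 3 = 1) : c' ^ 3 = 1 := cube_of_tr (c' := c) h.symm hc

theorem tr_mon (A : Matrix D.R D.R ℤ) (c' : Lbl D) : Tr D A (mon Aᵀ c') c' := fun v => (chr_tr D A v c').symm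

theorem tr_unique {A : Matrix D.R D.R ℤ} {c₁ : Lbl D} (h : Tr D A c c') (h₁ : Tr D A c₁ c') : c = c₁ :=
  eq_of_chr D fun v => (h v).symm.trans (h₁ v)

/-- a matrix of determinant prime to `3` is onto modulo `3` -/
theorem eq_of_det {A : Matrix D.R D.R ℤ} (hA : ¬ 3 ∣ A.det) {B B' : Matrix D.R D.R ℤ} (hc : c ^ 3 = 1) (hc' : c' ^ 3 = 1)
    (h : ∀ v, chr (B *ᵥ (A *ᵥ v)) c = chr (B' *ᵥ (A *ᵥ v)) c') (v : D.R → ℤ) : chr (B *ᵥ v) c = chr (B' *ᵥ v) c' := by
  have h1 := h (A.det • A.adjugate *ᵥ v)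
  rw [mulVec_smul, mulVec_mulVec, mul_adjugate, smul_mulVec, one_mulVec, smul_smul, mulVec_smul, mulVec_smul, chr_zsmul,
    chr_zsmul] at h1
  have h2 : 3 ∣ A.det * A.det - 1 := by
    have : A.det % 3 = 1 ∨ A.det % 3 = 2 := by omega
    rw [Int.dvd_iff_emod_eq_zero, Int.sub_emod, Int.mul_emod]
    rcases this with e | e <;> rw [e] <;> rfl
  rwa [zpow_of_cube (chr_cube hc _) h2, zpow_of_cube (chr_cube hc' _) h2] at h1

theorem mem_Wc_tr {A : Matrix D.R D.R ℤ} (hA : ¬ 3 ∣ A.det) (h : Tr D A c c') (hc : c' ^ 3 = 1) {u u' : D.W}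
    (e : D.Wm u' * A = A * D.Wm u) : u ∈ Wc D c ↔ u' ∈ Wc D c' := by
  constructor
  · intro hu v
    have := eq_of_det hA (B := D.Wm u') (B' := 1) hc hc (fun v => by
      rw [one_mulVec, mulVec_mulVec, e, ← mulVec_mulVec, h, h]
      exact hu v) v
    rwa [one_mulVec] at this
  · intro hu v
    rw [← h, ← h, mulVec_mulVec, ← e, ← mulVec_mulVec]
    exact hu _

theorem sg_tr {A : Matrix D.R D.R ℤ} (hA : ¬ 3 ∣ A.det) {u u' : D.W} (e : D.Wm u' * A = A * D.Wm u) : sg D u' = sg D u := by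
  have h0 : A.det ≠ 0 := fun h => hA (h ▸ dvd_zero 3)
  have h1 := congrArg det e
  rw [det_mul, det_mul, mul_comm] at h1
  rw [sg, sg, mul_left_cancel₀ h0 h1]

theorem det_Wm (v : D.W) : ¬ 3 ∣ (D.Wm v).det := by
  rcases sgZ_sign D v with h | h <;> rw [show (D.Wm v).det = sgZ D v from rfl, h] <;> decide

variable (D) in
/-- functions which are invariant under the automorphisms which preserve the sign -/
def Can (φ : D.W → ℂ) : Prop := ∀ a : MulAut D.W, (∀ u, sg D (a u) = sg D u) → ∀ u, φ (a u) = φ u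

theorem can_one : Can D fun _ => 1 := fun _ _ _ => rfl

theorem can_sg : Can D (sg D) := fun _ h => h

theorem Can.conj (h : Can D φ) (v u : D.W) : φ (v * u * v⁻¹) = φ u :=
  h (MulAut.conj v) (fun u => by
    rw [MulAut.conj_apply, sg_mul, sg_mul, sg_inv, mul_right_comm, sg_mul_self, one_mul]) u

variable (f : Fr D) [Fintype ↥(GF F G)]

variable (w₀) in
/-- the average over the stabiliser of the label -/
noncomputable def Rc (c : Lbl D) (φ : D.W → ℂ) : ↥(GF F G) → ℂ := avg f (Wc D c) φ w₀ c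

theorem avg_eq (U : Subgroup D.W) [Fintype U] (φ : D.W → ℂ) (w : D.W) (c : Lbl D) :
    avg f U φ w c = (Nat.card U : ℂ)⁻¹ • ∑ u : U, φ u • RW f (u * w) c := by
  funext g
  simp only [avg, finsum_eq_sum_of_fintype, Pi.smul_apply, Finset.sum_apply, smul_eq_mul]

theorem ip_avg (U : Subgroup D.W) (φ : D.W → ℂ) (w : D.W) (c : Lbl D) (ψ : ↥(GF F G) → ℂ) :
    classInner (avg f U φ w c) ψ = (Nat.card U : ℂ)⁻¹ * ∑ᶠ u : U, φ u * classInner (RW f (u * w) c) ψ := by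
  have := Fintype.ofFinite U
  rw [avg_eq, classInner_smul_left, classInner_sum_left, finsum_eq_sum_of_fintype]
  simp only [classInner_smul_left]

theorem ip_avg' (U : Subgroup D.W) (φ : D.W → ℂ) (w : D.W) (c : Lbl D) (ψ : ↥(GF F G) → ℂ) :
    classInner ψ (avg f U φ w c) = (Nat.card U : ℂ)⁻¹ * ∑ᶠ u : U, conj (φ u) * classInner ψ (RW f (u * w) c) := by
  have := Fintype.ofFinite U
  rw [avg_eq, classInner_smul_right, classInner_sum_right, finsum_eq_sum_of_fintype, map_inv₀, map_natCast]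
  simp only [classInner_smul_right]

theorem Rc_congr (h : ∀ u ∈ Wc D c, φ u = φ' u) : Rc w₀ f c φ = Rc w₀ f c φ' := by
  funext g
  simp only [Rc, avg]
  exact congrArg _ (finsum_congr fun u => by rw [h u u.2])

theorem Rc_sub (c : Lbl D) (φ φ' : D.W → ℂ) : Rc w₀ f c (fun u => φ u - φ' u) = Rc w₀ f c φ - Rc w₀ f c φ' := by
  have := Fintype.ofFinite (Wc D c)
  simp only [Rc, avg_eq, sub_smul, Finset.sum_sub_distrib, smul_sub]

/-- transport along an automorphism of the Weyl group -/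
theorem Rc_tr (a : MulAut D.W) (h1 : ∀ u, u ∈ Wc D c ↔ a u ∈ Wc D c') (h2 : ∀ u, φ (a u) = φ u) {g g' : ↥(GF F G)}
    (h3 : ∀ u ∈ Wc D c, RW f (a u * w₀) c' g' = RW f (u * w₀) c g) : Rc w₀ f c' φ g' = Rc w₀ f c φ g := by
  let e : Wc D c ≃ Wc D c' := Equiv.subtypeEquiv a.toEquiv h1
  simp only [Rc, avg]
  rw [Nat.card_congr e, ← finsum_comp_equiv e]
  exact congrArg _ (finsum_congr fun u => by
    show φ (a u) * RW f (a u * w₀) c' g' = _
    rw [h2, h3 u u.2])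

variable {f} (hA : Api f) (h : Sc D w₀)
include hA h

theorem Rc_rel (hφ : Can D φ) (hc : c ^ 3 = 1) {v : D.W} (hv : Rel D v c c') : Rc w₀ f c φ = Rc w₀ f c' φ := by
  funext g
  refine (Rc_tr f (MulAut.conj v) (fun u => mem_Wc_tr (det_Wm v) hv (cube_of_rel hv hc) ?_) (fun u => hφ.conj v u)
    fun u _ => ?_).symm
  · rw [MulAut.conj_apply, ← D.Wm_mul, ← D.Wm_mul, inv_mul_cancel_right]
  · rw [hA.conj v (u * w₀) (MulAut.conj v u * w₀) c c' (h.tc.2 (by simp)) hv]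

theorem Rc_aut (hφ : Can D φ) (hc : c' ^ 3 = 1) {α : MulAut Y} {A : Matrix D.R D.R ℤ} (hα : Au D α A) (hd : ¬ 3 ∣ A.det)
    (h0 : D.Wm w₀ * A = A * D.Wm w₀) (ht : Tr D A c c') (g : ↥(GF F G)) :
    Rc w₀ f c' φ (hα.aut g) = Rc w₀ f c φ g := by
  obtain ⟨⟨a, ha⟩, h2⟩ := hA.aut α A hα
  have h1 : ∀ u, u ∈ Wc D c ↔ a u ∈ Wc D c' := fun u => mem_Wc_tr hd ht hc (ha u)
  refine Rc_tr f a h1 (hφ a fun u => sg_tr hd (ha u)) fun u hu => ?_
  refine (h2 (u * w₀) (a u * w₀) c c' ?_ ht (h.fx hc ((h1 u).1 hu))).2 g _ rfl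
  rw [D.Wm_mul, D.Wm_mul, mul_assoc, h0, ← mul_assoc, ha, mul_assoc]

theorem ip_RW (hφ : Can D φ) (hc : c ^ 3 = 1) {u : D.W} (hu : u ∈ Wc D c) :
    classInner (Rc w₀ f c φ) (RW f (u * w₀) c) = φ u := by
  rw [Rc, ip_avg, finsum_congr fun x : Wc D c => congrArg (φ x * ·) (hA.ip _ _ c c (h.fx hc x.2) (h.fx hc hu))]
  simp only [h.tc]
  rw [show (∑ᶠ x : Wc D c, φ x * (Nat.card {v : D.W // u * v = v * x ∧ Rel D v c c} : ℂ)) = _ from
    sum_conj (Wc D c) hφ.conj hu, inv_mul_cancel_left₀ (card_ne _)]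

theorem ip_RW_ne (hc : c ^ 3 = 1) (hn : ∀ v, ¬ Rel D v c c') (w : D.W) : classInner (Rc w₀ f c φ) (RW f w c') = 0 := by
  by_cases hw : Fx D w c'
  · rw [Rc, ip_avg, finsum_congr fun x : Wc D c => congrArg (φ x * ·) (hA.ip _ _ c c' (h.fx hc x.2) hw)]
    have : ∀ x : Wc D c, Nat.card {v : D.W // Tc D v (x * w₀) w ∧ Rel D v c c'} = 0 := fun x => by
      have : IsEmpty {v : D.W // Tc D v (x * w₀) w ∧ Rel D v c c'} := ⟨fun v => hn _ v.2.2⟩
      exact Nat.card_of_isEmpty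
    simp [this]
  · rw [hA.zero w c' hw, classInner_zero_right]

theorem ip_same (hφ : Can D φ) (hc : c ^ 3 = 1) :
    classInner (Rc w₀ f c φ) (Rc w₀ f c φ') = (Nat.card (Wc D c) : ℂ)⁻¹ * ∑ᶠ u : Wc D c, conj (φ' u) * φ u := by
  conv_lhs => rw [show Rc w₀ f c φ' = avg f (Wc D c) φ' w₀ c from rfl, ip_avg']
  exact congrArg _ (finsum_congr fun u => by rw [ip_RW hA h hφ hc u.2])

theorem ip_ne (hc : c ^ 3 = 1) (hn : ∀ v, ¬ Rel D v c c') : classInner (Rc w₀ f c φ) (Rc w₀ f c' φ') = 0 := by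
  conv_lhs => rw [show Rc w₀ f c' φ' = avg f (Wc D c') φ' w₀ c' from rfl, ip_avg']
  simp [ip_RW_ne hA h hc hn]

theorem ip_RW0 (hφ : Can D φ) (hc : c ^ 3 = 1) {v : D.W} (hv : Rel D v c c') :
    classInner (Rc w₀ f c φ) (RW f w₀ c') = φ 1 := by
  rw [Rc_rel hA h hφ hc hv, ← ip_RW hA h hφ (cube_of_rel hv hc) (one_mem _), one_mul]

theorem mS_Rc (hφ : Can D φ) (hc : c ^ 3 = 1) : Lie.mS f w₀ (Rc w₀ f c φ) = (Wc D c).index * φ 1 := by
  classical
  have := Fintype.ofFinite D.W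
  let o : D.W → Lbl D := fun v => mon (D.Wm v⁻¹)ᵀ c
  have ho : ∀ v, Rel D v c (o v) := fun v => by
    have : Rel D v⁻¹ (o v) c := tr_mon _ c
    simpa using this.symm
  have h1 : ∀ c', c' ∈ Finset.univ.image o ↔ ∃ v, Rel D v c c' := fun c' => by
    simp only [Finset.mem_image, Finset.mem_univ, true_and]
    exact ⟨fun ⟨v, hv⟩ => ⟨v, hv ▸ ho v⟩, fun ⟨v, hv⟩ => ⟨v, tr_unique (A := D.Wm v⁻¹) (ho v).symm hv.symm⟩⟩
  have h2 : ∀ c', (∑ᶠ _ : Is3 D c', classInner (Rc w₀ f c φ) (RW f w₀ c')) =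
      if c' ∈ Finset.univ.image o then φ 1 else 0 := fun c' => by
    split_ifs with hc'
    · obtain ⟨v, hv⟩ := (h1 c').1 hc'
      rw [finsum_eq_if, if_pos ⟨1, by rw [pow_one]; exact cube_of_rel hv hc⟩, ip_RW0 hA h hφ hc hv]
    · rw [ip_RW_ne hA h hc (fun v hv => hc' ((h1 c').2 ⟨v, hv⟩)), finsum_zero]
  have h3 : (Finset.univ.image o).card = (Wc D c).index := by
    let o' : D.W ⧸ Wc D c → Lbl D := Quotient.lift o fun a b hab => by
      have h4 : Rel D (a⁻¹ * b) c c := QuotientGroup.leftRel_apply.1 hab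
      have h5 := h4.trans (ho a)
      rw [mul_inv_cancel_left] at h5
      exact tr_unique (A := D.Wm b⁻¹) h5.symm (ho b).symm
    have hi : Function.Injective o' := by
      rintro ⟨a⟩ ⟨b⟩ hab
      have h4 : o a = o b := hab
      exact Quotient.sound (QuotientGroup.leftRel_apply.2 ((h4 ▸ ho b).trans (ho a).symm))
    have := Fintype.ofFinite (D.W ⧸ Wc D c)
    rw [Subgroup.index, Nat.card_eq_fintype_card, ← Finset.card_univ, ← Finset.card_image_of_injective _ hi]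
    congr 1
    ext x
    simp only [Finset.mem_image, Finset.mem_univ, true_and]
    exact ⟨fun ⟨v, hv⟩ => ⟨(v : D.W ⧸ Wc D c), hv⟩, fun ⟨v, hv⟩ => by
      obtain ⟨v, rfl⟩ := QuotientGroup.mk_surjective v
      exact ⟨v, hv⟩⟩
  rw [Lie.mS, finsum_congr h2, finsum_eq_sum_of_support_subset (s := Finset.univ.image o) _ fun c' hc' => by
    by_contra hn
    exact hc' (if_neg hn), Finset.sum_congr rfl fun c' hc' => if_pos hc', Finset.sum_const, h3, nsmul_eq_mul]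

/-- the average over a subgroup of the stabiliser -/
theorem avg_ind {U : Subgroup D.W} (hU : U ≤ Wc D c) : avg f U (fun _ => 1) w₀ c =
    Rc w₀ f c fun x => (Nat.card {v : D.W // v ∈ Wc D c ∧ v⁻¹ * x * v ∈ U} : ℂ) / Nat.card U := by
  funext g
  have h1 := sum_ind hU (r := fun u => RW f (u * w₀) c g) fun v hv u _ => by
    show RW f _ c g = RW f _ c g
    rw [hA.conj v (v⁻¹ * u * v * w₀) (u * w₀) c c (h.tc.2 (by group)) hv]
  have := Fintype.ofFinite (Wc D c)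
  simp only [Rc, avg, one_mul]
  rw [finsum_eq_sum_of_fintype] at h1
  rw [finsum_eq_sum_of_fintype (α := Wc D c)]
  simp only [div_mul_eq_mul_div, ← Finset.sum_div]
  rw [h1]
  have := card_ne (Wc D c)
  field_simp

/-- **members** -/
theorem exists_mem (hC : Mc f w₀) {M : Ideal AlgInt} (hM : IsPModular 3 M) (hφ : Can D φ) (hc : c ^ 3 = 1)
    (hg : IsGeneralizedCharacter ↥(GF F G) (Rc w₀ f c φ))
    (hn : ∑ᶠ u : Wc D c, conj (φ u) * φ u = Nat.card (Wc D c)) {m : ℤ} (hm : φ 1 = m) (h3 : ¬ 3 ∣ m)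
    (hi : ¬ 3 ∣ (Wc D c).index) :
    ∃ χ : IrrCharacter ↥(GF F G), Mem M χ ∧ ∃ ε : ℤˣ, χ.1 = ((ε : ℤ) : ℂ) • Rc w₀ f c φ := by
  have h1 : classInner (Rc w₀ f c φ) (Rc w₀ f c φ) = 1 := by
    rw [ip_same hA h hφ hc, hn, inv_mul_cancel₀ (card_ne _)]
  have key : ∀ (χ : IrrCharacter ↥(GF F G)) (ε : ℤˣ), χ.1 = ((ε : ℤ) : ℂ) • Rc w₀ f c φ → Mem M χ := fun χ ε e => by
    refine (hC.can M hM χ (fun c' hc' => ?_) (ε * ((Wc D c).index * m)) ?_).2 fun h4 => ?_
    · rw [e, classInner_smul_left] at hc'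
      by_contra hn
      refine hc' ?_
      rw [ip_RW_ne hA h hc (fun v hv => hn ⟨1, by rw [pow_one]; exact cube_of_rel hv hc⟩), mul_zero]
    · push_cast
      rw [← hm, ← mS_Rc hA h hφ hc, e]
      simp only [Lie.mS, classInner_smul_left]
      rcases Int.units_eq_one_or ε with rfl | rfl
      · simp
      · simp [finsum_neg_distrib]
    · rw [(Units.isUnit ε).dvd_mul_left] at h4
      exact (Int.prime_three.dvd_or_dvd h4).elim (fun h5 => hi (by exact_mod_cast h5)) h3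
  rcases isIrr_of_generalized hg h1 with h2 | h2
  · exact ⟨⟨_, h2⟩, key _ 1 (by simp), 1, by simp⟩
  · exact ⟨⟨_, h2⟩, key _ (-1) (by simp), -1, by simp⟩

end Cfsg.Agent.KZ.ClD
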